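import Mathlib

/-!
# Subgroups containing all derangements of a transitive group

If every element outside a subgroup `D` of a transitive group fixes a point, then `D` is
transitive, every element outside `D` fixes exactly one point, and consequences of this.
-/

set_option autoImplicit false

namespace CfsgLib.Perm

open MulAction

variable {G : Type*} [Group G] [Finite G] {X : Type*} [MulAction G X] [Finite X]

/-- Burnside's lemma with `Nat.card`. -/
theorem sum_fix_eq_orbits (H : Type*) [Group H] [Fintype H] (Y : Type*) [MulAction H Y]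
    [Finite Y] :
    ∑ h : H, Nat.card (fixedBy Y h) = Nat.card (orbitRel.Quotient H Y) * Fintype.card H := by
  classical
  haveI := Fintype.ofFinite Y
  simp only [Nat.card_eq_fintype_card]
  exact sum_card_fixedBy_eq_card_orbits_mul_card_group H Y

theorem card_orbits_eq_one (H : Type*) [Group H] (Y : Type*) [MulAction H Y]
    [IsPretransitive H Y] [Nonempty Y] : Nat.card (orbitRel.Quotient H Y) = 1 := by
  haveI : Subsingleton (orbitRel.Quotient H Y) := by
    refine ⟨fun a b => ?_⟩
    induction a using Quotient.inductionOn with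
    | _ a =>
      induction b using Quotient.inductionOn with
      | _ b => exact Quotient.sound (orbitRel_apply.2 (exists_smul_eq H b a))
  exact Nat.card_eq_one_iff_unique.2 ⟨inferInstance, (inferInstance : Nonempty Y).map Quotient.mk''⟩

theorem isPretransitive_of_card_orbits_le_one (H : Type*) [Group H] (Y : Type*) [MulAction H Y]
    [Finite Y] (h : Nat.card (orbitRel.Quotient H Y) ≤ 1) : IsPretransitive H Y := by
  haveI : Subsingleton (orbitRel.Quotient H Y) :=
    Finite.card_le_one_iff_subsingleton.1 h
  refine ⟨fun x y => ?_⟩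
  have := Subsingleton.elim (Quotient.mk'' y : orbitRel.Quotient H Y) (Quotient.mk'' x)
  exact orbitRel_apply.1 (Quotient.eq''.1 this)

/-- Burnside's lemma split along a subgroup. -/
theorem orbits_mul_card_eq (D : Subgroup G) [Fintype G] [DecidablePred (· ∈ D)] :
    Nat.card (orbitRel.Quotient G X) * Nat.card G =
      Nat.card (orbitRel.Quotient D X) * Nat.card D +
        ∑ g ∈ Finset.univ.filter (fun g => g ∉ D), Nat.card (fixedBy X g) := by
  classical
  haveI := Fintype.ofFinite D
  have h1 := sum_fix_eq_orbits G X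
  have h2 := sum_fix_eq_orbits D X
  rw [← Finset.sum_filter_add_sum_filter_not Finset.univ (fun g => g ∈ D)] at h1
  simp only [Nat.card_eq_fintype_card (α := G), Nat.card_eq_fintype_card (α := D)]
  rw [← h1, ← h2]
  congr 1
  rw [Finset.sum_subtype (p := fun g => g ∈ D) (F := inferInstance)]
  · rfl
  · intro x; simp

theorem card_filter_notMem (D : Subgroup G) [Fintype G] [DecidablePred (· ∈ D)] :
    Nat.card D + (Finset.univ.filter (fun g => g ∉ D)).card = Nat.card G := by
  classical
  rw [Nat.card_eq_fintype_card, Nat.card_eq_fintype_card, Fintype.card_subtype,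
    Finset.card_filter_add_card_filter_not, Finset.card_univ]

/-- If every element outside `D` fixes a point then `D` is transitive and these elements fix
exactly one point each. -/
theorem transitive_and_fix_eq_one [IsPretransitive G X] [Nonempty X] (D : Subgroup G)
    (hD : ∀ g : G, g ∉ D → ∃ x : X, g • x = x) :
    IsPretransitive D X ∧ ∀ g : G, g ∉ D → Nat.card (fixedBy X g) = 1 := by
  classical
  haveI := Fintype.ofFinite G
  obtain ⟨s, hs⟩ : ∃ s, s = Finset.univ.filter (fun g : G => g ∉ D) := ⟨_, rfl⟩
  have h1 := orbits_mul_card_eq (X := X) D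
  rw [card_orbits_eq_one G X, one_mul] at h1
  have h2 := card_filter_notMem D
  rw [← hs] at h1 h2
  have hpos : ∀ g ∈ s, 1 ≤ Nat.card (fixedBy X g) := by
    intro g hg
    obtain ⟨x, hx⟩ := hD g (by rw [hs] at hg; exact (Finset.mem_filter.1 hg).2)
    haveI : Nonempty (fixedBy X g) := ⟨⟨x, hx⟩⟩
    exact Nat.card_pos
  have h3 : s.card ≤ ∑ g ∈ s, Nat.card (fixedBy X g) := by
    simpa using Finset.card_nsmul_le_sum s _ 1 hpos
  have hDpos : 0 < Nat.card D := Nat.card_pos
  have ht : Nat.card (orbitRel.Quotient D X) ≤ 1 := by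
    by_contra hc
    have : 2 * Nat.card D ≤ Nat.card (orbitRel.Quotient D X) * Nat.card D :=
      Nat.mul_le_mul_right _ (Nat.not_le.1 hc)
    omega
  have hT := isPretransitive_of_card_orbits_le_one D X ht
  refine ⟨hT, fun g hg => ?_⟩
  rw [card_orbits_eq_one D X, one_mul] at h1
  have h4 : ∑ g ∈ s, Nat.card (fixedBy X g) = ∑ g ∈ s, 1 := by
    rw [Finset.sum_const, smul_eq_mul, mul_one]; omega
  exact ((Finset.sum_eq_sum_iff_of_le hpos).1 h4.symm g (by simp [hs, hg])).symm

theorem fixed_unique [IsPretransitive G X] [Nonempty X] (D : Subgroup G)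
    (hD : ∀ g : G, g ∉ D → ∃ x : X, g • x = x) {g : G} (hg : g ∉ D) {x y : X}
    (hx : g • x = x) (hy : g • y = y) : x = y := by
  have h := (transitive_and_fix_eq_one D hD).2 g hg
  have hs := (Nat.card_eq_one_iff_unique.1 h).1
  exact congrArg Subtype.val (@Subsingleton.elim _ hs ⟨x, hx⟩ ⟨y, hy⟩)

/-- A transitive subgroup and a point stabiliser: relative index equals index. -/
theorem relIndex_stabilizer_eq_index [IsPretransitive G X] (D : Subgroup G)
    [IsPretransitive D X] (a : X) : D.relIndex (stabilizer G a) = D.index := by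
  haveI : Nonempty X := ⟨a⟩
  have hn : 0 < Nat.card X := Nat.card_pos
  have h1 : (stabilizer G a).index = Nat.card X := index_stabilizer_of_transitive G a
  have h2 : (stabilizer G a).relIndex D = Nat.card X := by
    rw [← index_stabilizer_of_transitive D a]
    rfl
  have h3 := Subgroup.relIndex_mul_index (H := D ⊓ stabilizer G a) (K := stabilizer G a) inf_le_right
  have h4 := Subgroup.relIndex_mul_index (H := D ⊓ stabilizer G a) (K := D) inf_le_left
  rw [Subgroup.inf_relIndex_right, h1] at h3
  rw [inf_comm D, Subgroup.inf_relIndex_right, h2, inf_comm _ D] at h4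
  rw [← h4, mul_comm (Nat.card X)] at h3
  exact Nat.eq_of_mul_eq_mul_right hn h3

theorem index_dvd_orbit [IsPretransitive G X] (D : Subgroup G)
    (hD : ∀ g : G, g ∉ D → ∃ x : X, g • x = x) {a b : X} (hab : b ≠ a) :
    D.index ∣ Nat.card (orbit (stabilizer G a) b) := by
  haveI : Nonempty X := ⟨a⟩
  haveI := (transitive_and_fix_eq_one D hD).1
  rw [← relIndex_stabilizer_eq_index D a, Subgroup.relIndex,
    Nat.card_coe_set_eq, ← index_stabilizer]
  refine Subgroup.index_dvd_of_le (fun g hg => ?_)
  rw [Subgroup.mem_subgroupOf]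
  by_contra hgD
  exact hab (fixed_unique D hD hgD (mem_stabilizer_iff.1 hg) g.2)

/-- The index of `D` divides the number of points minus one. -/
theorem index_dvd_card_sub_one [IsPretransitive G X] [Nonempty X] (D : Subgroup G)
    (hD : ∀ g : G, g ∉ D → ∃ x : X, g • x = x) : D.index ∣ Nat.card X - 1 := by
  classical
  obtain ⟨a⟩ := ‹Nonempty X›
  haveI := Fintype.ofFinite X
  let H := stabilizer G a
  let Q := orbitRel.Quotient H X
  haveI : Fintype Q := Fintype.ofFinite Q
  have hsum : Nat.card X = ∑ w : Q, Nat.card (orbitRel.Quotient.orbit w) := by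
    rw [Nat.card_congr (selfEquivSigmaOrbits' H X), Nat.card_sigma]
  let w₀ : Q := Quotient.mk'' a
  have h0 : Nat.card (orbitRel.Quotient.orbit w₀) = 1 := by
    rw [orbitRel.Quotient.orbit_mk]
    refine Nat.card_eq_one_iff_unique.2 ⟨⟨fun x y => ?_⟩, ⟨⟨a, mem_orbit_self a⟩⟩⟩
    obtain ⟨x, g, rfl⟩ := x
    obtain ⟨y, k, rfl⟩ := y
    exact Subtype.ext (g.2.trans k.2.symm)
  rw [hsum, ← Finset.add_sum_erase _ _ (Finset.mem_univ w₀), h0, Nat.add_sub_cancel_left]
  refine Finset.dvd_sum fun w hw => ?_
  revert hw
  induction w using Quotient.inductionOn' with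
  | h b =>
    intro hw
    rw [orbitRel.Quotient.orbit_mk]
    exact index_dvd_orbit D hD fun hb => (Finset.mem_erase.1 hw).1 (by rw [hb])

variable (G X)

/-- The subgroup generated by the derangements contains them. -/
theorem mem_closure_derangements_of (g : G) (hg : ∀ x : X, g • x ≠ x) :
    g ∈ Subgroup.closure {g : G | ∀ x : X, g • x ≠ x} := Subgroup.subset_closure hg

theorem notMem_closure_derangements (g : G)
    (hg : g ∉ Subgroup.closure {g : G | ∀ x : X, g • x ≠ x}) : ∃ x : X, g • x = x := by
  by_contra hc
  push Not at hc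
  exact hg (mem_closure_derangements_of G X g hc)

theorem closure_derangements_normal :
    (Subgroup.closure {g : G | ∀ x : X, g • x ≠ x}).Normal := by
  constructor
  intro n hn g
  have : ∀ d ∈ {g : G | ∀ x : X, g • x ≠ x}, g * d * g⁻¹ ∈ {g : G | ∀ x : X, g • x ≠ x} := by
    intro d hd x hx
    apply hd (g⁻¹ • x)
    rw [mul_smul, mul_smul, smul_eq_iff_eq_inv_smul] at hx
    exact hx
  have hle : Subgroup.closure {g : G | ∀ x : X, g • x ≠ x} ≤
      (Subgroup.closure {g : G | ∀ x : X, g • x ≠ x}).comap (MulAut.conj g).toMonoidHom := by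
    rw [Subgroup.closure_le]
    intro d hd
    exact Subgroup.subset_closure (this d hd)
  exact hle hn

end CfsgLib.Perm
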