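import Mathlib
import Cfsg.Agent.Perm.DerangementSubgroup

/-!
# Primitive groups all of whose derangements are `p`-elements

Such a group has an elementary abelian regular normal subgroup, or a simple nonabelian normal
subgroup with trivial centraliser.
-/

set_option autoImplicit false

namespace CfsgLib.Perm

open MulAction

variable {G : Type*} [Group G] [Finite G]

theorem exists_minimal_subgroup {P : Subgroup G → Prop} {S : Subgroup G} (hS : P S) :
    ∃ T : Subgroup G, T ≤ S ∧ P T ∧ ∀ M : Subgroup G, P M → M ≤ T → M = T := by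
  obtain ⟨T, hTS, hT⟩ :=
    Finite.exists_le_minimal (p := P) hS
  exact ⟨T, hTS, hT.1, fun M hM hMT => le_antisymm hMT (hT.2 hM hMT)⟩

/-- Jordan's theorem: a proper subgroup misses a whole conjugacy class. -/
theorem exists_forall_conj_notMem {R : Subgroup G} (hR : R ≠ ⊤) :
    ∃ g : G, ∀ y : G, y * g * y⁻¹ ∉ R := by
  by_contra hc
  push Not at hc
  have h : ∀ g : G, g ∉ (⊥ : Subgroup G) → ∃ x : G ⧸ R, g • x = x := by
    intro g _
    obtain ⟨y, hy⟩ := hc g
    refine ⟨QuotientGroup.mk y⁻¹, ?_⟩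
    rw [MulAction.Quotient.smul_mk, QuotientGroup.eq, smul_eq_mul]
    have := R.inv_mem hy
    simpa [mul_assoc] using this
  have htr := (transitive_and_fix_eq_one ⊥ h).1
  haveI : Subsingleton (G ⧸ R) := by
    refine ⟨fun x y => ?_⟩
    obtain ⟨⟨g, hg⟩, hgx⟩ := htr.exists_smul_eq x y
    rw [Subgroup.mem_bot] at hg
    subst hg
    simpa [Subgroup.mk_smul] using hgx
  exact hR (Subgroup.eq_top_iff' R |>.2 fun g => by
    have h1 : (QuotientGroup.mk g : G ⧸ R) = QuotientGroup.mk 1 := Subsingleton.elim _ _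
    rw [QuotientGroup.eq, mul_one] at h1
    simpa using R.inv_mem h1)

theorem exists_prime_order_ne {M : Subgroup G} (p : ℕ) (hp : p.Prime) (hM : ¬ IsPGroup p M) :
    ∃ s ∈ M, ∃ q : ℕ, q.Prime ∧ q ≠ p ∧ orderOf s = q := by
  haveI := Fact.mk hp
  have hc : ¬ ∃ n : ℕ, Nat.card M = p ^ n := fun h => hM (IsPGroup.iff_card.2 h)
  obtain ⟨q, hq, hqd, hqp⟩ : ∃ q : ℕ, q.Prime ∧ q ∣ Nat.card M ∧ q ≠ p := by
    by_contra h
    push Not at h
    exact hc ⟨_, Nat.eq_prime_pow_of_unique_prime_dvd Nat.card_pos.ne'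
      fun {d} hd hdd => h d hd hdd⟩
  haveI := Fact.mk hq
  obtain ⟨s, hs⟩ := exists_prime_orderOf_dvd_card' q hqd
  exact ⟨s, s.2, q, hq, hqp, by rw [Subgroup.orderOf_coe, hs]⟩

/-- A nontrivial `p`-subgroup which is minimal normal is commutative. -/
theorem isMulCommutative_of_minimal_pGroup {N : Subgroup G} (hN : N.Normal) (hN1 : N ≠ ⊥)
    (hmin : ∀ M : Subgroup G, M.Normal → M ≠ ⊥ → M ≤ N → M = N) {p : ℕ} (hp : p.Prime)
    (hpg : IsPGroup p N) : IsMulCommutative N := by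
  haveI := Fact.mk hp
  haveI := hN
  haveI : Nontrivial N := (Subgroup.nontrivial_iff_ne_bot N).2 hN1
  haveI := hpg.center_nontrivial
  have hZn : ((Subgroup.center N).map N.subtype).Normal := inferInstance
  have hZ1 : (Subgroup.center N).map N.subtype ≠ ⊥ := by
    rw [Ne, Subgroup.map_eq_bot_iff_of_injective _ N.subtype_injective]
    exact (Subgroup.nontrivial_iff_ne_bot _).1 inferInstance
  have hZ : (Subgroup.center N).map N.subtype = N :=
    hmin _ hZn hZ1 (Subgroup.map_subtype_le _)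
  refine ⟨⟨fun x y => ?_⟩⟩
  obtain ⟨z, hz, hzx⟩ := (hZ.ge x.2)
  obtain rfl : z = x := Subtype.ext hzx
  exact (Subgroup.mem_center_iff.1 hz y).symm

/-- An abelian minimal normal subgroup is elementary abelian. -/
theorem exists_elementary_of_minimal_abelian {N : Subgroup G} (hN : N.Normal) (hN1 : N ≠ ⊥)
    (hmin : ∀ M : Subgroup G, M.Normal → M ≠ ⊥ → M ≤ N → M = N) (hab : IsMulCommutative N) :
    ∃ r : ℕ, r.Prime ∧ ∀ x ∈ N, x ^ r = 1 := by
  have hcomm : ∀ x ∈ N, ∀ y ∈ N, x * y = y * x := fun x hx y hy =>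
    congrArg Subtype.val (hab.is_comm.comm ⟨x, hx⟩ ⟨y, hy⟩)
  obtain ⟨r, hr, hrd⟩ := Nat.exists_prime_and_dvd
    (fun h => hN1 (Subgroup.eq_bot_of_card_eq N h) : Nat.card N ≠ 1)
  haveI := Fact.mk hr
  obtain ⟨c, hc⟩ := exists_prime_orderOf_dvd_card' r hrd
  let M : Subgroup G :=
    { carrier := {x | x ∈ N ∧ x ^ r = 1}
      one_mem' := ⟨N.one_mem, one_pow r⟩
      mul_mem' := fun {x y} hx hy => ⟨N.mul_mem hx.1 hy.1, by
        rw [(show Commute x y from hcomm x hx.1 y hy.1).mul_pow, hx.2, hy.2, one_mul]⟩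
      inv_mem' := fun {x} hx => ⟨N.inv_mem hx.1, by rw [inv_pow, hx.2, inv_one]⟩ }
  have hMn : M.Normal := ⟨fun x hx g => ⟨hN.conj_mem x hx.1 g, by
    rw [conj_pow, hx.2, mul_one, mul_inv_cancel]⟩⟩
  have hcM : (c : G) ∈ M := ⟨c.2, by rw [← hc, ← Subgroup.orderOf_coe, pow_orderOf_eq_one]⟩
  have hM1 : M ≠ ⊥ := fun h => by
    rw [h, Subgroup.mem_bot, ← orderOf_eq_one_iff, Subgroup.orderOf_coe, hc] at hcM
    exact hr.ne_one hcM
  exact ⟨r, hr, fun x hx => ((hmin M hMn hM1 fun y hy => hy.1).ge hx).2⟩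

variable {X : Type*} [MulAction G X]

theorem transitive_of_normal_ne_bot [FaithfulSMul G X] [IsPreprimitive G X] {M : Subgroup G}
    (hM : M.Normal) (hM1 : M ≠ ⊥) : IsPretransitive M X := by
  haveI := hM
  apply IsQuasiPreprimitive.isPretransitive_of_normal (G := G)
  intro h
  apply hM1
  rw [eq_bot_iff]
  intro g hg
  rw [Subgroup.mem_bot]
  apply FaithfulSMul.eq_of_smul_eq_smul (α := X)
  intro x
  have hx : x ∈ fixedPoints M X := h ▸ Set.mem_univ x
  rw [one_smul]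
  exact hx ⟨g, hg⟩

/-- An element fixed by a transitive subgroup which it centralises is trivial. -/
theorem eq_one_of_centralize_transitive [FaithfulSMul G X] {N : Subgroup G} [IsPretransitive N X]
    {c : G} (hc : ∀ n ∈ N, n * c = c * n) {x : X} (hx : c • x = x) : c = 1 := by
  apply FaithfulSMul.eq_of_smul_eq_smul (α := X)
  intro y
  obtain ⟨n, rfl⟩ := exists_smul_eq N x y
  rw [one_smul, Subgroup.smul_def, ← mul_smul, ← hc _ n.2, mul_smul, hx]

theorem affine_or_almostSimple [FaithfulSMul G X] [Finite X] [IsPreprimitive G X] [Nontrivial X]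
    (p : ℕ) (hp : p.Prime) (hder : ∀ g : G, (∀ x : X, g • x ≠ x) → ∃ k : ℕ, orderOf g = p ^ k) :
    (∃ (N : Subgroup G) (r : ℕ), r.Prime ∧ N.Normal ∧ IsMulCommutative N ∧
      (∀ a ∈ N, a ^ r = 1) ∧
      IsPretransitive N X ∧ ∀ a : X, stabilizer N a = ⊥) ∨
    (∃ T : Subgroup G, T.Normal ∧ IsSimpleGroup T ∧ ¬ IsMulCommutative T ∧
      Subgroup.centralizer (T : Set G) = ⊥) := by
  haveI := Fact.mk hp
  have hG : (⊤ : Subgroup G) ≠ ⊥ := by
    intro h
    obtain ⟨x, y, hxy⟩ := exists_pair_ne X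
    obtain ⟨g, hg⟩ := exists_smul_eq G x y
    have : g = 1 := Subgroup.mem_bot.1 (h ▸ Subgroup.mem_top g)
    rw [this, one_smul] at hg
    exact hxy hg
  obtain ⟨N, -, ⟨hN, hN1⟩, hmin'⟩ := exists_minimal_subgroup
    (P := fun M : Subgroup G => M.Normal ∧ M ≠ ⊥) (S := ⊤) ⟨inferInstance, hG⟩
  have hmin : ∀ M : Subgroup G, M.Normal → M ≠ ⊥ → M ≤ N → M = N := fun M a b => hmin' M ⟨a, b⟩
  haveI hNt : IsPretransitive N X := transitive_of_normal_ne_bot hN hN1
  -- the abelian case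
  by_cases hab : IsMulCommutative N
  · obtain ⟨r, hr, hre⟩ := exists_elementary_of_minimal_abelian hN hN1 hmin hab
    refine Or.inl ⟨N, r, hr, hN, hab, hre, hNt, fun a => eq_bot_iff.2 fun c hc => ?_⟩
    rw [Subgroup.mem_bot]
    apply Subtype.ext
    exact eq_one_of_centralize_transitive (N := N)
      (fun n hn => congrArg Subtype.val (hab.is_comm.comm ⟨n, hn⟩ c)) (x := a) hc
  -- the centraliser of `N` is trivial
  have hfix : ∀ (M : Subgroup G), M.Normal → (∀ c ∈ M, ∀ n ∈ N, n * c = c * n) → M = ⊥ := by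
    intro M hM hMc
    by_contra hM1
    haveI : IsPretransitive M X := transitive_of_normal_ne_bot hM hM1
    have hpg : IsPGroup p N := by
      intro n
      by_cases hn : ∀ x : X, (n : G) • x ≠ x
      · obtain ⟨k, hk⟩ := hder _ hn
        exact ⟨k, by rw [← hk, Subgroup.orderOf_coe, pow_orderOf_eq_one]⟩
      · push Not at hn
        obtain ⟨x, hx⟩ := hn
        refine ⟨0, ?_⟩
        rw [show n = 1 from Subtype.ext (eq_one_of_centralize_transitive (N := M)
          (fun c hc => (hMc c hc n n.2).symm) hx), one_pow]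
    exact hab (isMulCommutative_of_minimal_pGroup hN hN1 hmin hp hpg)
  haveI := hN
  have hCN : Subgroup.centralizer (N : Set G) = ⊥ :=
    hfix _ inferInstance fun c hc n hn => Subgroup.mem_centralizer_iff.1 hc n hn
  -- a minimal normal subgroup of `N`
  obtain ⟨T, hTN, ⟨hT1, hTn⟩, hTmin'⟩ := exists_minimal_subgroup
    (P := fun M : Subgroup G => M ≠ ⊥ ∧ ∀ n ∈ N, ∀ x ∈ M, n * x * n⁻¹ ∈ M) (S := N)
    ⟨hN1, fun n hn x hx => N.mul_mem (N.mul_mem hn hx) (N.inv_mem hn)⟩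
  have hTmin : ∀ M : Subgroup G, M ≠ ⊥ → (∀ n ∈ N, ∀ x ∈ M, n * x * n⁻¹ ∈ M) → M ≤ T → M = T :=
    fun M a b => hTmin' M ⟨a, b⟩
  rcases eq_or_ne T N with rfl | hTne
  · refine Or.inr ⟨T, hN, ?_, hab, hCN⟩
    haveI : Nontrivial T := (Subgroup.nontrivial_iff_ne_bot T).2 hN1
    refine ⟨fun H hH => ?_⟩
    by_contra hH'
    push Not at hH'
    have h1 : H.map T.subtype ≠ ⊥ := by
      rw [Ne, Subgroup.map_eq_bot_iff_of_injective _ T.subtype_injective]; exact hH'.1
    have h2 := hTmin _ h1 (by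
      rintro n hn x ⟨h, hh, rfl⟩
      exact ⟨_, hH.conj_mem h hh ⟨n, hn⟩, rfl⟩) (Subgroup.map_subtype_le H)
    exact hH'.2 (Subgroup.eq_top_iff' H |>.2 fun t => by
      obtain ⟨h, hh, e⟩ := h2.ge t.2
      rwa [← Subtype.ext (show (h : G) = t from e)])
  exfalso
  -- conjugates of `T`
  let C : Subgroup G := N ⊓ Subgroup.centralizer (T : Set G)
  let conjT : G → Subgroup G := fun g => T.map (MulAut.conj g).toMonoidHom
  have hconjN : ∀ g, conjT g ≤ N := by
    rintro g x ⟨t, ht, rfl⟩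
    exact hN.conj_mem t (hTN ht) g
  have hconjn : ∀ g, ∀ n ∈ N, ∀ x ∈ conjT g, n * x * n⁻¹ ∈ conjT g := by
    rintro g n hn x ⟨t, ht, rfl⟩
    refine ⟨_, hTn _ (hN.conj_mem' n hn g) t ht, ?_⟩
    simp [mul_assoc]
  have hcard : ∀ g, Nat.card (conjT g) = Nat.card T := fun g =>
    Subgroup.card_map_of_injective (MulAut.conj g).injective
  have hdich : ∀ g, conjT g = T ∨ conjT g ≤ C := by
    intro g
    by_cases h : conjT g ⊓ T = ⊥
    · refine Or.inr fun x hx => ⟨hconjN g hx, Subgroup.mem_centralizer_iff.2 fun t ht => ?_⟩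
      have h1 : t * x * t⁻¹ * x⁻¹ ∈ conjT g ⊓ T := by
        refine ⟨(conjT g).mul_mem (hconjn g t (hTN ht) x hx) ((conjT g).inv_mem hx), ?_⟩
        have := T.mul_mem ht (hTn x (hconjN g hx) _ (T.inv_mem ht))
        simpa [mul_assoc] using this
      rw [h, Subgroup.mem_bot, mul_inv_eq_one, mul_inv_eq_iff_eq_mul] at h1
      exact h1
    · have h2 : conjT g ⊓ T = T := hTmin _ h
        (fun n hn x hx => ⟨hconjn g n hn x hx.1, hTn n hn x hx.2⟩) inf_le_right
      exact Or.inl (Subgroup.eq_of_le_of_card_ge (inf_eq_right.1 h2) (hcard g).le).symm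
  have hCn : ∀ n ∈ N, ∀ x ∈ C, n * x * n⁻¹ ∈ C := by
    intro n hn x hx
    refine ⟨N.mul_mem (N.mul_mem hn hx.1) (N.inv_mem hn), Subgroup.mem_centralizer_iff.2 fun t ht => ?_⟩
    have h1 := Subgroup.mem_centralizer_iff.1 hx.2 _ (hTn n⁻¹ (N.inv_mem hn) t ht)
    rw [inv_inv] at h1
    calc t * (n * x * n⁻¹) = n * (n⁻¹ * t * n * x) * n⁻¹ := by group
      _ = n * (x * (n⁻¹ * t * n)) * n⁻¹ := by rw [h1]
      _ = n * x * n⁻¹ * t := by group
  have hTTC : T ⊓ C = ⊥ := by
    by_contra h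
    have h2 : T ⊓ C = T := hTmin _ h (fun n hn x hx => ⟨hTn n hn x hx.1, hCn n hn x hx.2⟩) inf_le_left
    have hTab : ∀ x ∈ T, ∀ y ∈ T, x * y = y * x := fun x hx y hy =>
      Subgroup.mem_centralizer_iff.1 ((inf_eq_left.1 h2) hy).2 x hx
    -- `T` would be central in `N`
    apply hab
    have hW : ∀ g, ∀ x ∈ conjT g, ∀ t ∈ T, t * x = x * t := fun g x hx t ht => by
      rcases hdich g with e | e
      · exact hTab t ht x (e ▸ hx)
      · exact Subgroup.mem_centralizer_iff.1 (e hx).2 t ht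
    let W : Subgroup G := Subgroup.normalClosure (T : Set G)
    have hWN : W = N := hmin _ Subgroup.normalClosure_normal
      (fun e => hT1 (eq_bot_iff.2 (e ▸ Subgroup.le_normalClosure)))
      (Subgroup.normalClosure_le_normal hTN)
    have hTcent : ∀ w ∈ N, ∀ t ∈ T, t * w = w * t := by
      intro w hw t ht
      have : W ≤ Subgroup.centralizer (T : Set G) := by
        refine (Subgroup.closure_le _).2 ?_
        intro x hx
        obtain ⟨t', ht', hx'⟩ := Group.mem_conjugatesOfSet_iff.1 hx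
        obtain ⟨g, rfl⟩ := isConj_iff.1 hx'
        exact Subgroup.mem_centralizer_iff.2 fun t ht => hW g _ ⟨t', ht', rfl⟩ t ht
      exact Subgroup.mem_centralizer_iff.1 (this (hWN.symm ▸ hw)) t ht
    have hle : N ≤ Subgroup.centralizer (N : Set G) := by
      rw [← hWN]
      refine (Subgroup.normalClosure_le_normal ?_)
      intro t ht
      exact Subgroup.mem_centralizer_iff.2 fun w hw => (hTcent w (hWN ▸ hw) t ht).symm
    exact absurd (hCN ▸ hle) (fun h => hN1 (le_bot_iff.1 h))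
  have hsup : N ≤ T ⊔ C := by
    have : N = Subgroup.normalClosure (T : Set G) := (hmin _ Subgroup.normalClosure_normal
      (fun e => hT1 (eq_bot_iff.2 (e ▸ Subgroup.le_normalClosure)))
      (Subgroup.normalClosure_le_normal hTN)).symm
    rw [this]
    refine (Subgroup.closure_le _).2 ?_
    intro x hx
    obtain ⟨t', ht', hx'⟩ := Group.mem_conjugatesOfSet_iff.1 hx
    obtain ⟨g, rfl⟩ := isConj_iff.1 hx'
    rcases hdich g with e | e
    · exact Subgroup.mem_sup_left (e ▸ (⟨t', ht', rfl⟩ : g * t' * g⁻¹ ∈ conjT g))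
    · exact Subgroup.mem_sup_right (e ⟨t', ht', rfl⟩)
  have hdec : ∀ n ∈ N, ∃ t ∈ T, ∃ c ∈ C, n = t * c := by
    intro n hn
    have hTnorm : C ≤ Subgroup.normalizer (T : Set G) := fun c hc => by
      rw [Subgroup.mem_normalizer_iff]
      intro t
      constructor
      · exact fun ht => hTn c hc.1 t ht
      · intro ht
        have := hTn c⁻¹ (N.inv_mem hc.1) _ ht
        simpa [mul_assoc] using this
    have h1 := hsup hn
    rw [← SetLike.mem_coe, Subgroup.coe_mul_of_right_le_normalizer_left T C hTnorm] at h1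
    obtain ⟨t, ht, c, hc, e⟩ := h1
    exact ⟨t, ht, c, hc, e.symm⟩
  have hTC : ∀ t ∈ T, ∀ c ∈ C, t * c = c * t :=
    fun t ht c hc => Subgroup.mem_centralizer_iff.1 hc.2 t ht
  -- there is a conjugate inside `C`, so `C` contains an element of prime order other than `p`
  obtain ⟨g₀, hg₀⟩ : ∃ g, conjT g ≠ T := by
    by_contra h
    push Not at h
    exact hTne (hmin T ⟨fun t ht g => (h g) ▸ (⟨t, ht, rfl⟩ : g * t * g⁻¹ ∈ conjT g)⟩ hT1 hTN)
  have hTp : ¬ IsPGroup p T := by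
    intro hpg
    haveI : Nontrivial T := (Subgroup.nontrivial_iff_ne_bot T).2 hT1
    haveI := hpg.center_nontrivial
    obtain ⟨z, hz, hz1⟩ := (Subgroup.nontrivial_iff_exists_ne_one _).1
      (inferInstance : Nontrivial (Subgroup.center T))
    apply hz1
    apply Subtype.ext
    have : (z : G) ∈ T ⊓ C := ⟨z.2, hTN z.2, Subgroup.mem_centralizer_iff.2 fun t ht =>
      congrArg Subtype.val (Subgroup.mem_center_iff.1 hz ⟨t, ht⟩)⟩
    rw [hTTC, Subgroup.mem_bot] at this
    exact this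
  obtain ⟨s, hsT, q, hq, hqp, hs⟩ := exists_prime_order_ne p hp hTp
  obtain ⟨a⟩ := (inferInstance : Nonempty X)
  let R : Subgroup G := (N ⊓ stabilizer G a) ⊔ C
  have hfixN : ∀ w ∈ N, (∃ x : X, w • x = x) → ∃ n ∈ N, n * w * n⁻¹ ∈ N ⊓ stabilizer G a := by
    rintro w hw ⟨x, hx⟩
    obtain ⟨n, hn⟩ := exists_smul_eq N x a
    refine ⟨n, n.2, N.mul_mem (N.mul_mem n.2 hw) (N.inv_mem n.2), ?_⟩
    have hn' : (n : G) • x = a := hn
    show ((n : G) * w * (n : G)⁻¹) • a = a
    rw [← hn', ← mul_smul, inv_mul_cancel_right, mul_smul, hx]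
  have hpow : ∀ w : G, q ∣ orderOf w → ∃ x : X, w • x = x := by
    intro w hw
    by_contra h
    push Not at h
    obtain ⟨k, hk⟩ := hder w h
    exact hqp ((Nat.prime_dvd_prime_iff_eq hq hp).1 (hq.dvd_of_dvd_pow (hk ▸ hw)))
  by_cases hTR : T ≤ R
  · -- the projection of the stabiliser is all of `T`
    obtain ⟨n, hn, hns⟩ := hfixN s (hTN hsT) (hpow s (hs ▸ dvd_rfl))
    let U : Subgroup G := T ⊓ stabilizer G a
    have hU1 : U ≠ ⊥ := fun h => by
      have h1 : n * s * n⁻¹ ∈ U := ⟨hTn n hn s hsT, hns.2⟩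
      rw [h, Subgroup.mem_bot, conj_eq_one_iff] at h1
      rw [h1, orderOf_one] at hs
      exact hq.ne_one hs.symm
    have hUR : ∀ r ∈ R, ∀ u ∈ U, r * u * r⁻¹ ∈ U := by
      have hA : ∀ r ∈ N ⊓ stabilizer G a, ∀ u ∈ U, r * u * r⁻¹ ∈ U := fun r hr u hu =>
        ⟨hTn r hr.1 u hu.1, (stabilizer G a).mul_mem ((stabilizer G a).mul_mem hr.2 hu.2)
          ((stabilizer G a).inv_mem hr.2)⟩
      have hB : ∀ r ∈ C, ∀ u ∈ U, r * u * r⁻¹ ∈ U := fun r hr u hu => by
        rw [← hTC u hu.1 r hr, mul_inv_cancel_right]; exact hu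
      have hle : R ≤ Subgroup.normalizer (U : Set G) := by
        refine sup_le ?_ ?_ <;> intro r hr <;> rw [Subgroup.mem_normalizer_iff] <;> intro u <;>
          refine ⟨fun hu => ?_, fun hu => ?_⟩
        · exact hA r hr u hu
        · have := hA r⁻¹ ((N ⊓ stabilizer G a).inv_mem hr) _ hu
          simpa [mul_assoc] using this
        · exact hB r hr u hu
        · have := hB r⁻¹ (C.inv_mem hr) _ hu
          simpa [mul_assoc] using this
      exact fun r hr u hu => (Subgroup.mem_normalizer_iff.1 (hle hr) u).1 hu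
    have hU : U = T := hTmin U hU1 (fun n hn u hu => by
      obtain ⟨t, ht, c, hc, rfl⟩ := hdec n hn
      exact hUR _ (R.mul_mem (hTR ht) (Subgroup.mem_sup_right hc)) u hu) inf_le_left
    apply hT1
    rw [eq_bot_iff]
    intro t ht
    rw [Subgroup.mem_bot]
    apply FaithfulSMul.eq_of_smul_eq_smul (α := X)
    intro x
    obtain ⟨m, rfl⟩ := exists_smul_eq N a x
    have hm := hTn (m : G)⁻¹ (N.inv_mem m.2) t ht
    rw [← hU] at hm
    have hm' : ((m : G)⁻¹ * t * (m : G)⁻¹⁻¹) • a = a := hm.2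
    rw [inv_inv, mul_smul, mul_smul, inv_smul_eq_iff] at hm'
    rw [one_smul]
    exact hm'
  · -- the projection is proper
    have hR' : R.subgroupOf T ≠ ⊤ := fun h => hTR (Subgroup.subgroupOf_eq_top.1 h)
    obtain ⟨t, ht⟩ := exists_forall_conj_notMem hR'
    have hs' : g₀ * s * g₀⁻¹ ∈ C :=
      ((hdich g₀).resolve_left hg₀) (⟨s, hsT, rfl⟩ : g₀ * s * g₀⁻¹ ∈ conjT g₀)
    have hso : orderOf (g₀ * s * g₀⁻¹) = q := by
      rw [← hs]
      exact orderOf_injective (MulAut.conj g₀).toMonoidHom (MulAut.conj g₀).injective s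
    generalize g₀ * s * g₀⁻¹ = s' at hs' hso
    have hqd : q ∣ orderOf ((t : G) * s') := by
      rw [← hso]
      apply orderOf_dvd_of_pow_eq_one
      have h1 : ((t : G) * s') ^ orderOf ((t : G) * s') = 1 := pow_orderOf_eq_one _
      rw [(show Commute (t : G) s' from hTC t t.2 s' hs').mul_pow] at h1
      have h2 : s' ^ orderOf ((t : G) * s') ∈ T ⊓ C :=
        ⟨by rw [eq_inv_of_mul_eq_one_right h1]; exact T.inv_mem (T.pow_mem t.2 _),
          C.pow_mem hs' _⟩
      rwa [hTTC, Subgroup.mem_bot] at h2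
    obtain ⟨n, hn, hnw⟩ := hfixN _ (N.mul_mem (hTN t.2) hs'.1) (hpow _ hqd)
    obtain ⟨y, hy, c, hc, rfl⟩ := hdec n hn
    apply ht ⟨y, hy⟩
    rw [Subgroup.mem_subgroupOf]
    show y * (t : G) * y⁻¹ ∈ R
    have hyt : y * (t : G) * y⁻¹ ∈ T := T.mul_mem (T.mul_mem hy t.2) (T.inv_mem hy)
    have hcs : c * s' * c⁻¹ ∈ C := hCn c hc.1 s' hs'
    have e : y * c * ((t : G) * s') * (y * c)⁻¹ = (y * (t : G) * y⁻¹) * (c * s' * c⁻¹) := by
      have e1 := hTC t t.2 c hc
      have e2 := hTC y hy _ hcs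
      calc y * c * ((t : G) * s') * (y * c)⁻¹
          = y * (c * t) * (s' * c⁻¹) * y⁻¹ := by group
        _ = y * (t * c) * (s' * c⁻¹) * y⁻¹ := by rw [e1]
        _ = y * t * y⁻¹ * (y * (c * s' * c⁻¹)) * y⁻¹ := by group
        _ = y * t * y⁻¹ * ((c * s' * c⁻¹) * y) * y⁻¹ := by rw [e2]
        _ = (y * t * y⁻¹) * (c * s' * c⁻¹) := by group
    rw [e] at hnw
    have := R.mul_mem (Subgroup.mem_sup_left hnw) (R.inv_mem (Subgroup.mem_sup_right hcs))
    rwa [mul_inv_cancel_right] at this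

end CfsgLib.Perm
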