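import Mathlib
import Cfsg.Agent.Perm.DerangementSubgroup
import Cfsg.Agent.Perm.PElementDerangements
import Cfsg.Agent.MinNormal.Primitive

/-!
# Primitive groups with few conjugacy classes of derangements

A primitive group that is neither affine nor almost simple has at least three classes of
derangements.
-/

set_option autoImplicit false

namespace CfsgLib.Perm

open MulAction CfsgLib.MinNormal

variable {G : Type*} [Group G] [Finite G] {X : Type*} [MulAction G X]

theorem three_le_card_classes {x y z : G} (hx : ∀ a : X, x • a ≠ a) (hy : ∀ a : X, y • a ≠ a)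
    (hz : ∀ a : X, z • a ≠ a) (hxy : ¬ IsConj x y) (hxz : ¬ IsConj x z) (hyz : ¬ IsConj y z) :
    3 ≤ Nat.card {c : ConjClasses G // ∃ g : G, ConjClasses.mk g = c ∧ ∀ a : X, g • a ≠ a} := by
  have key : ∀ {u v : G}, ¬ IsConj u v → ConjClasses.mk u ≠ ConjClasses.mk v := fun h e =>
    h (ConjClasses.mk_eq_mk_iff_isConj.1 e)
  haveI := Fintype.ofFinite {c : ConjClasses G // ∃ g : G, ConjClasses.mk g = c ∧ ∀ a : X, g • a ≠ a}
  rw [Nat.card_eq_fintype_card, Nat.succ_le_iff, Fintype.two_lt_card_iff]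
  exact ⟨⟨_, x, rfl, hx⟩, ⟨_, y, rfl, hy⟩, ⟨_, z, rfl, hz⟩,
    fun e => key hxy (congrArg Subtype.val e), fun e => key hxz (congrArg Subtype.val e),
    fun e => key hyz (congrArg Subtype.val e)⟩

theorem orderOf_eq_of_isConj {x y : G} (h : IsConj x y) : orderOf x = orderOf y := by
  obtain ⟨c, rfl⟩ := isConj_iff.1 h
  exact (orderOf_injective (MulAut.conj c).toMonoidHom (MulAut.conj c).injective x).symm

theorem not_isPGroup_of_simple {S : Subgroup G} (hs : IsSimpleGroup S) (hna : ¬ IsMulCommutative S)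
    (p : ℕ) (hp : p.Prime) : ¬ IsPGroup p S := by
  intro h
  haveI := Fact.mk hp
  haveI := hs
  haveI : Nontrivial S := IsSimpleGroup.toNontrivial
  haveI := h.center_nontrivial
  have hc : Subgroup.center S = ⊤ := (Subgroup.Normal.eq_bot_or_eq_top inferInstance).resolve_left
    ((Subgroup.nontrivial_iff_ne_bot _).1 inferInstance)
  exact hna ⟨⟨fun u v => Subgroup.mem_center_iff.1 (hc ▸ Subgroup.mem_top v) u⟩⟩

theorem exists_two_prime_orders {S : Subgroup G} (hs : IsSimpleGroup S) (hna : ¬ IsMulCommutative S) :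
    ∃ x ∈ S, ∃ y ∈ S, ∃ p q : ℕ, p.Prime ∧ q.Prime ∧ p ≠ q ∧ orderOf x = p ∧ orderOf y = q := by
  obtain ⟨x, hx, p, hp, -, hxp⟩ :=
    exists_prime_order_ne 2 Nat.prime_two (not_isPGroup_of_simple hs hna 2 Nat.prime_two)
  obtain ⟨y, hy, q, hq, hqp, hyq⟩ := exists_prime_order_ne p hp (not_isPGroup_of_simple hs hna p hp)
  exact ⟨x, hx, y, hy, p, q, hp, hq, hqp.symm, hxp, hyq⟩

theorem inf_eq_bot_of_commute {S U : Subgroup G} (hs : IsSimpleGroup S) (hna : ¬ IsMulCommutative S)
    (h : ∀ x ∈ U, ∀ y ∈ S, Commute x y) : ∀ x ∈ U, x ∈ S → x = 1 := by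
  intro x hxU hxS
  haveI := hs
  have hz : (⟨x, hxS⟩ : S) ∈ Subgroup.center S :=
    Subgroup.mem_center_iff.2 fun y => Subtype.ext (h x hxU y y.2).symm.eq
  have hc : Subgroup.center S = ⊥ := (Subgroup.Normal.eq_bot_or_eq_top inferInstance).resolve_right
    fun e => hna ⟨⟨fun u v => Subgroup.mem_center_iff.1 (e ▸ Subgroup.mem_top v) u⟩⟩
  rw [hc, Subgroup.mem_bot] at hz
  exact congrArg Subtype.val hz

/-- A transitive subgroup with two commuting simple factors from a conjugation invariant family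
yields three classes of derangements. -/
theorem three_classes_of_factors [FaithfulSMul G X] [Nonempty X] {W : Subgroup G}
    [IsPretransitive W X] (F : Set (Subgroup G))
    (hF : ∀ U ∈ F, ∀ g : G, U.map (MulAut.conj g).toMonoidHom ∈ F) {S T : Subgroup G}
    (hSF : S ∈ F) (hTF : T ∈ F) (hne : T ≠ S) (hSW : S ≤ W) (hTW : T ≤ W)
    (hSn : W ≤ Subgroup.normalizer (S : Set G))
    (hS : IsSimpleGroup S) (hSa : ¬ IsMulCommutative S) (hT : IsSimpleGroup T)
    (hTa : ¬ IsMulCommutative T)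
    (hcomm : ∀ U ∈ F, U ≠ S → ∀ x ∈ U, ∀ y ∈ S, Commute x y)
    (hdec : ∀ w ∈ W, ∃ a ∈ S, ∃ b ∈ Subgroup.centralizer (S : Set G), w = a * b) :
    3 ≤ Nat.card {c : ConjClasses G // ∃ g : G, ConjClasses.mk g = c ∧ ∀ a : X, g • a ≠ a} := by
  obtain ⟨a⟩ := ‹Nonempty X›
  have hST : ∀ x ∈ T, x ∈ S → x = 1 := inf_eq_bot_of_commute hS hSa (hcomm T hTF hne)
  let C : Subgroup G := W ⊓ Subgroup.centralizer (S : Set G)
  let A : Subgroup G := W ⊓ stabilizer G a
  let R : Subgroup G := A ⊔ C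
  have hCn : ∀ w ∈ W, ∀ c ∈ C, w * c * w⁻¹ ∈ C := fun w hw c hc =>
    ⟨W.mul_mem (W.mul_mem hw hc.1) (W.inv_mem hw), Subgroup.mem_centralizer_iff.2 fun x hx => by
      have h1 := Subgroup.mem_centralizer_iff.1 hc.2 (w⁻¹ * x * w) (by
        simpa using (Subgroup.mem_normalizer_iff.1 (hSn (W.inv_mem hw)) x).1 hx)
      calc x * (w * c * w⁻¹) = w * ((w⁻¹ * x * w) * c) * w⁻¹ := by group
        _ = w * (c * (w⁻¹ * x * w)) * w⁻¹ := by rw [h1]
        _ = w * c * w⁻¹ * x := by group⟩
  have hfix : ∀ w ∈ W, (∃ x : X, w • x = x) → ∃ n ∈ W, n * w * n⁻¹ ∈ A := by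
    rintro w hw ⟨x, hx⟩
    obtain ⟨n, hn⟩ := exists_smul_eq W x a
    refine ⟨n, n.2, W.mul_mem (W.mul_mem n.2 hw) (W.inv_mem n.2), ?_⟩
    show ((n : G) * w * (n : G)⁻¹) • a = a
    rw [← hn, Subgroup.smul_def, ← mul_smul, inv_mul_cancel_right, mul_smul, hx]
  by_cases hSR : S ≤ R
  · -- every nontrivial element of `S` is a derangement
    have hder : ∀ u ∈ S, u ≠ 1 → ∀ x : X, u • x ≠ x := by
      intro u hu hu1 x hx
      obtain ⟨n, hn, hnu⟩ := hfix u (hSW hu) ⟨x, hx⟩
      let U : Subgroup G := S ⊓ stabilizer G a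
      have hU1 : n * u * n⁻¹ ∈ U := ⟨(Subgroup.mem_normalizer_iff.1 (hSn hn) u).1 hu, hnu.2⟩
      have hUR : R ≤ Subgroup.normalizer (U : Set G) := by
        have hA : ∀ r ∈ A, ∀ v ∈ U, r * v * r⁻¹ ∈ U := fun r hr v hv =>
          ⟨(Subgroup.mem_normalizer_iff.1 (hSn hr.1) v).1 hv.1, (stabilizer G a).mul_mem
            ((stabilizer G a).mul_mem hr.2 hv.2) ((stabilizer G a).inv_mem hr.2)⟩
        have hC : ∀ r ∈ C, ∀ v ∈ U, r * v * r⁻¹ ∈ U := fun r hr v hv => by
          rw [← Subgroup.mem_centralizer_iff.1 hr.2 v hv.1, mul_inv_cancel_right]; exact hv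
        refine sup_le ?_ ?_ <;> intro r hr <;> rw [Subgroup.mem_normalizer_iff] <;> intro v
        · refine ⟨hA r hr v, fun hv => ?_⟩
          have := hA r⁻¹ (A.inv_mem hr) _ hv
          simpa [mul_assoc] using this
        · refine ⟨hC r hr v, fun hv => ?_⟩
          have := hC r⁻¹ (C.inv_mem hr) _ hv
          simpa [mul_assoc] using this
      haveI := hS
      rcases Subgroup.Normal.eq_bot_or_eq_top ((Subgroup.normal_subgroupOf_iff_le_normalizer
        (inf_le_left : U ≤ S)).2 (hSR.trans hUR)) with e | e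
      · have h0 : n * u * n⁻¹ ∈ (⊥ : Subgroup G) :=
          (Subgroup.subgroupOf_eq_bot.1 e) le_rfl (inf_le_left : U ≤ S) hU1
        rw [Subgroup.mem_bot, conj_eq_one_iff] at h0
        exact hu1 h0
      · apply hu1
        apply FaithfulSMul.eq_of_smul_eq_smul (α := X)
        intro y
        obtain ⟨m, rfl⟩ := exists_smul_eq W a y
        have hm : (m : G)⁻¹ * u * (m : G) ∈ U := Subgroup.subgroupOf_eq_top.1 e (by
          simpa using (Subgroup.mem_normalizer_iff.1 (hSn (W.inv_mem m.2)) u).1 hu)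
        have hm' : ((m : G)⁻¹ * u * (m : G)) • a = a := hm.2
        rw [mul_smul, mul_smul, inv_smul_eq_iff] at hm'
        rw [one_smul]
        exact hm'
    obtain ⟨s₁, hs₁, s₂, hs₂, p, q, hp, hq, hpq, ho₁, ho₂⟩ := exists_two_prime_orders hS hSa
    obtain ⟨x, hx, r, hr, hrp, hxr⟩ := exists_prime_order_ne p hp (not_isPGroup_of_simple hT hTa p hp)
    have hcs : Commute s₁ x := (hcomm T hTF hne x hx s₁ hs₁).symm
    have ho : orderOf (s₁ * x) = p * r := by
      rw [hcs.orderOf_mul_eq_mul_orderOf_of_coprime, ho₁, hxr]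
      rw [ho₁, hxr]
      exact (Nat.coprime_primes hp hr).2 hrp.symm
    have hs1ne : s₁ ≠ 1 := fun e => hp.ne_one (by rw [← ho₁, e, orderOf_one])
    have hs2ne : s₂ ≠ 1 := fun e => hq.ne_one (by rw [← ho₂, e, orderOf_one])
    refine three_le_card_classes (hder s₁ hs₁ hs1ne) (hder s₂ hs₂ hs2ne) (z := s₁ * x)
      (fun y hy => ?_) (fun h => hpq ?_) (fun h => ?_) (fun h => ?_)
    · refine hder (s₁ ^ r) (S.pow_mem hs₁ r) (fun e => ?_) y ?_
      · have := orderOf_dvd_of_pow_eq_one e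
        rw [ho₁, Nat.prime_dvd_prime_iff_eq hp hr] at this
        exact hrp this.symm
      · have hmem : s₁ * x ∈ stabilizer G y := hy
        have := (stabilizer G y).pow_mem hmem r
        rwa [hcs.mul_pow, ← hxr, pow_orderOf_eq_one, mul_one, hxr, mem_stabilizer_iff] at this
    · rw [← ho₁, ← ho₂]; exact orderOf_eq_of_isConj h
    · have h' := orderOf_eq_of_isConj h
      rw [ho₁, ho] at h'
      exact hr.ne_one (Nat.eq_of_mul_eq_mul_left hp.pos (by rw [mul_one]; exact h'.symm))
    · have h' := orderOf_eq_of_isConj h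
      rw [ho₂, ho] at h'
      exact hpq ((Nat.prime_dvd_prime_iff_eq hp hq).1 (h' ▸ dvd_mul_right p r))
  · -- some element of `S` has no conjugate in the projection of the stabiliser
    obtain ⟨t, ht⟩ := exists_forall_conj_notMem (R := R.subgroupOf S)
      (fun e => hSR (Subgroup.subgroupOf_eq_top.1 e))
    have ht1 : (t : G) ≠ 1 := fun e => ht 1 (by
      rw [Subgroup.mem_subgroupOf, Subgroup.coe_mul, Subgroup.coe_mul, e]; simp)
    have hder : ∀ x ∈ C, ∀ y : X, ((t : G) * x) • y ≠ y := by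
      intro x hx y hy
      obtain ⟨n, hn, hnw⟩ := hfix _ (W.mul_mem (hSW t.2) hx.1) ⟨y, hy⟩
      obtain ⟨u, hu, b, hb, rfl⟩ := hdec n hn
      have hbW : b ∈ W := by
        have := W.mul_mem (W.inv_mem (hSW hu)) hn
        rwa [inv_mul_cancel_left] at this
      have hcx : b * x * b⁻¹ ∈ C := hCn b hbW x hx
      have e : u * b * ((t : G) * x) * (u * b)⁻¹ = (u * (t : G) * u⁻¹) * (b * x * b⁻¹) := by
        have e1 := Subgroup.mem_centralizer_iff.1 hb t t.2
        have e2 := Subgroup.mem_centralizer_iff.1 hcx.2 u hu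
        calc u * b * ((t : G) * x) * (u * b)⁻¹
            = u * (b * t) * (x * b⁻¹) * u⁻¹ := by group
          _ = u * (t * b) * (x * b⁻¹) * u⁻¹ := by rw [e1]
          _ = u * t * u⁻¹ * (u * (b * x * b⁻¹)) * u⁻¹ := by group
          _ = u * t * u⁻¹ * ((b * x * b⁻¹) * u) * u⁻¹ := by rw [e2]
          _ = (u * t * u⁻¹) * (b * x * b⁻¹) := by group
      apply ht ⟨u, hu⟩
      rw [Subgroup.mem_subgroupOf]
      show u * (t : G) * u⁻¹ ∈ R
      rw [e] at hnw
      have := R.mul_mem (Subgroup.mem_sup_left hnw) (R.inv_mem (Subgroup.mem_sup_right hcx))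
      rwa [mul_inv_cancel_right] at this
    have hTC : ∀ x ∈ T, x ∈ C := fun x hx => ⟨hTW hx, Subgroup.mem_centralizer_iff.2 fun y hy =>
      ((hcomm T hTF hne x hx y hy).eq).symm⟩
    -- elements with two nontrivial components lie in no member of the family
    have hnotin : ∀ u ∈ S, u ≠ 1 → ∀ x ∈ T, x ≠ 1 → ∀ U ∈ F, u * x ∉ U := by
      intro u hu hu1 x hx hx1 U hU hmem
      by_cases e : U = S
      · subst e
        have := U.mul_mem (U.inv_mem hu) hmem
        rw [inv_mul_cancel_left] at this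
        exact hx1 (hST x hx this)
      · refine hu1 (inf_eq_bot_of_commute hS hSa (U := Subgroup.centralizer (S : Set G))
          (fun v hv y hy => (Subgroup.mem_centralizer_iff.1 hv y hy).symm) u ?_ hu)
        have h1 : u * x ∈ Subgroup.centralizer (S : Set G) := Subgroup.mem_centralizer_iff.2
          fun y hy => ((hcomm U hU e _ hmem y hy).eq).symm
        have := (Subgroup.centralizer (S : Set G)).mul_mem h1
          ((Subgroup.centralizer (S : Set G)).inv_mem (hTC x hx).2)
        rwa [mul_inv_cancel_right] at this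
    obtain ⟨x₁, hx₁, x₂, hx₂, p, q, hp, hq, hpq, ho₁, ho₂⟩ := exists_two_prime_orders hT hTa
    have hx1ne : x₁ ≠ 1 := fun e => hp.ne_one (by rw [← ho₁, e, orderOf_one])
    have hx2ne : x₂ ≠ 1 := fun e => hq.ne_one (by rw [← ho₂, e, orderOf_one])
    have hc₁ : Commute (t : G) x₁ := (hcomm T hTF hne x₁ hx₁ t t.2).symm
    have hc₂ : Commute (t : G) x₂ := (hcomm T hTF hne x₂ hx₂ t t.2).symm
    refine three_le_card_classes (x := (t : G)) (fun y => by simpa using hder 1 C.one_mem y)
      (y := (t : G) * x₁) (hder x₁ (hTC x₁ hx₁)) (z := (t : G) * x₂) (hder x₂ (hTC x₂ hx₂))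
      (fun h => ?_) (fun h => ?_) (fun h => ?_)
    · obtain ⟨c, hc⟩ := isConj_iff.1 h
      exact hnotin t t.2 ht1 x₁ hx₁ hx1ne _ (hF S hSF c) ⟨t, t.2, hc⟩
    · obtain ⟨c, hc⟩ := isConj_iff.1 h
      exact hnotin t t.2 ht1 x₂ hx₂ hx2ne _ (hF S hSF c) ⟨t, t.2, hc⟩
    · by_cases htp : (t : G) ^ p = 1
      · -- the element `t x₁` has order dividing `p`
        have h1 : ((t : G) * x₁) ^ p = 1 := by
          rw [hc₁.mul_pow, htp, ← ho₁, pow_orderOf_eq_one, one_mul]
        obtain ⟨c, hc⟩ := isConj_iff.1 h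
        have h2 : ((t : G) * x₂) ^ p = 1 := by
          rw [← hc, conj_pow, h1, mul_one, mul_inv_cancel]
        rw [hc₂.mul_pow, htp, one_mul] at h2
        have h3 := orderOf_dvd_of_pow_eq_one h2
        rw [ho₂, Nat.prime_dvd_prime_iff_eq hq hp] at h3
        exact hpq h3.symm
      · obtain ⟨c, hc⟩ := isConj_iff.1 h
        refine hnotin ((t : G) ^ p) (S.pow_mem t.2 p) htp (x₂ ^ p) (T.pow_mem hx₂ p) (fun e => ?_)
          _ (hF S hSF c) ⟨(t : G) ^ p, S.pow_mem t.2 p, ?_⟩
        · have h3 := orderOf_dvd_of_pow_eq_one e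
          rw [ho₂, Nat.prime_dvd_prime_iff_eq hq hp] at h3
          exact hpq h3.symm
        · show c * (t : G) ^ p * c⁻¹ = (t : G) ^ p * x₂ ^ p
          rw [← hc₂.mul_pow, ← hc, conj_pow, hc₁.mul_pow, ← ho₁, pow_orderOf_eq_one, mul_one]

/-- A primitive group that is not almost simple and has at most two classes of derangements has an
abelian regular normal subgroup. -/
theorem exists_abelian_regular_of_few_classes [FaithfulSMul G X] [IsPreprimitive G X] [Nonempty X]
    [Nontrivial G]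
    (hnas : ¬ ∃ T : Subgroup G, T.Normal ∧ IsSimpleGroup T ∧ ¬ IsMulCommutative T ∧
      Subgroup.centralizer (T : Set G) = ⊥)
    (hcls : Nat.card {c : ConjClasses G // ∃ g : G, ConjClasses.mk g = c ∧ ∀ a : X, g • a ≠ a} ≤ 2) :
    ∃ N : Subgroup G, IsMinNormal N ∧ IsMulCommutative N ∧ IsPretransitive N X ∧
      (∀ a : X, stabilizer N a = ⊥) ∧ Subgroup.centralizer (N : Set G) = N := by
  classical
  obtain ⟨N, hN⟩ := exists_isMinNormal (G := G)
  haveI hNt : IsPretransitive N X := isPretransitive_of_normal hN.normal hN.ne_bot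
  haveI := hN.normal
  rcases hN.primitive_cases (X := X) with ⟨hab, hC, hreg, -⟩ | ⟨hna, hC, -⟩ |
    ⟨hna, -, M, hM, hMN, -, ⟨e⟩, -, huniq⟩
  · exact ⟨N, hN, hab, hNt, hreg, hC⟩
  · exfalso
    obtain ⟨s, hs⟩ := hN.exists_isFactors hna
    obtain ⟨S, hS⟩ := hs.nonempty
    have hone : ∃ T ∈ s, T ≠ S := by
      by_contra h
      push Not at h
      have hNS : N = S := le_antisymm
        (hs.sup_eq ▸ Finset.sup_le fun T hT => (h T hT).le) (hs.le S hS)
      subst hNS
      exact hnas ⟨N, hN.normal, hs.simple N hS, hna, hC⟩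
    obtain ⟨T, hT, hne⟩ := hone
    have h3 := three_classes_of_factors (X := X) (W := N) {U | U ∈ s}
      (fun U hU g => hs.conj_mem U hU g) hS hT hne (hs.le S hS) (hs.le T hT) (hs.normalized S hS)
      (hs.simple S hS) (hs.not_comm S hS) (hs.simple T hT) (hs.not_comm T hT)
      (fun U hU hne x hx y hy => hs.commute U hU S hS hne x hx y hy)
      (fun w hw => by
        obtain ⟨a, ha, b, hb, he⟩ := hs.exists_mul hS hw
        exact ⟨a, ha, b, hs.sup_erase_le_centralizer hS hb, he⟩)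
    omega
  · exfalso
    haveI := hM.normal
    obtain ⟨s, hs⟩ := hN.exists_isFactors hna
    have hMna : ¬ IsMulCommutative M := fun h => hna ⟨⟨fun x y => e.injective (by
      rw [map_mul, map_mul]; exact h.is_comm.comm (e x) (e y))⟩⟩
    obtain ⟨S, hS⟩ := hs.nonempty
    by_cases hone : ∃ T ∈ s, T ≠ S
    · obtain ⟨T, hT, hne⟩ := hone
      have h3 := three_classes_of_factors (X := X) (W := N) {U | U ∈ s}
        (fun U hU g => hs.conj_mem U hU g) hS hT hne (hs.le S hS) (hs.le T hT) (hs.normalized S hS)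
        (hs.simple S hS) (hs.not_comm S hS) (hs.simple T hT) (hs.not_comm T hT)
        (fun U hU hne x hx y hy => hs.commute U hU S hS hne x hx y hy)
        (fun w hw => by
          obtain ⟨a, ha, b, hb, he⟩ := hs.exists_mul hS hw
          exact ⟨a, ha, b, hs.sup_erase_le_centralizer hS hb, he⟩)
      omega
    · push Not at hone
      have hNS : N = S := le_antisymm
        (hs.sup_eq ▸ Finset.sup_le fun T hT => (hone T hT).le) (hs.le S hS)
      have hNsimple : IsSimpleGroup N := by rw [hNS]; exact hs.simple S hS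
      haveI : IsPretransitive (N ⊔ M : Subgroup G) X := ⟨fun x y => by
        obtain ⟨n, hn⟩ := exists_smul_eq N x y
        exact ⟨⟨n, Subgroup.mem_sup_left n.2⟩, hn⟩⟩
      have h3 := three_classes_of_factors (X := X) (W := N ⊔ M) {U | IsMinNormal U}
        (fun U hU g => hU.map_mulEquiv (MulAut.conj g)) hN hM hMN le_sup_left le_sup_right
        (Subgroup.le_normalizer_of_normal) hNsimple hna
        ((MulEquiv.isSimpleGroup_congr e).1 hNsimple) hMna
        (fun U hU hne x hx y hy => IsMinNormal.commute_of_ne hU hN hne hx hy)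
        (fun w hw => by
          rw [← SetLike.mem_coe, Subgroup.normal_mul] at hw
          obtain ⟨a, ha, b, hb, he⟩ := hw
          exact ⟨a, ha, b, hN.le_centralizer_of_ne hM hMN.symm hb, he.symm⟩)
      omega

omit [Finite G] in
/-- A regular abelian normal subgroup: its nontrivial elements are derangements, and the
point stabiliser acts on them as on the other points. -/
theorem derangement_of_regular {N : Subgroup G} (hreg : ∀ a : X, stabilizer N a = ⊥) {v : G}
    (hv : v ∈ N) (hv1 : v ≠ 1) (a : X) : v • a ≠ a := fun h => by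
  have h1 : (⟨v, hv⟩ : N) ∈ stabilizer N a := h
  rw [hreg a, Subgroup.mem_bot] at h1
  exact hv1 (congrArg Subtype.val h1)

end CfsgLib.Perm
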