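import Mathlib
import Cfsg.Agent.Perm.DerangementClasses

/-!
# No simple group has all element stabilisers maximal in an operator group

Let `L` act on a nonabelian finite simple group `T` by maps respecting products of commuting
elements and realising all inner automorphisms. Then some nontrivial element has a non-maximal
stabiliser in `L`. The proof counts centres of Sylow subgroups.
-/

set_option autoImplicit false

namespace CfsgLib.Perm.CentMax

open MulAction CfsgLib.Perm

variable {T : Type*} [Group T] [Finite T]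

/-- A `p`-subgroup containing every element of a Sylow overgroup normalising it is that Sylow
subgroup. -/
theorem eq_sylow_of_self_normalizing {p : ℕ} [Fact p.Prime] (P : Sylow p T) {B : Subgroup T}
    (hBP : B ≤ (P : Subgroup T))
    (h : ∀ n ∈ (P : Subgroup T), (∀ b ∈ B, n * b * n⁻¹ ∈ B) → n ∈ B) : B = (P : Subgroup T) := by
  refine le_antisymm hBP (Subgroup.subgroupOf_eq_top.1 ?_)
  by_contra hne
  haveI : Group.IsNilpotent (P : Subgroup T) := P.2.isNilpotent
  have hlt := Group.normalizerCondition_of_isNilpotent (G := (P : Subgroup T))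
    (B.subgroupOf P) (lt_top_iff_ne_top.2 hne)
  obtain ⟨n, hn, hnB⟩ := SetLike.exists_of_lt hlt
  refine hnB (h n n.2 fun b hb => ?_)
  have := (Subgroup.mem_normalizer_iff.1 hn ⟨b, hBP hb⟩).1 hb
  exact this

/-- The centre of a nonabelian `p`-group has index at least `p ^ 2`. -/
theorem card_center_mul_sq_le {P : Type*} [Group P] [Finite P] {p : ℕ} [hp : Fact p.Prime]
    (hP : IsPGroup p P) (hna : ¬ IsMulCommutative P) :
    Nat.card (Subgroup.center P) * p ^ 2 ≤ Nat.card P := by
  rw [← Subgroup.card_mul_index (Subgroup.center P)]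
  apply Nat.mul_le_mul_left
  obtain ⟨n, hn⟩ := hP.index (Subgroup.center P)
  rw [hn]
  refine Nat.pow_le_pow_right hp.out.pos ?_
  by_contra hlt
  have hcyc : IsCyclic (P ⧸ Subgroup.center P) := by
    have hc : Nat.card (P ⧸ Subgroup.center P) = p ^ n := hn
    rcases (show n = 0 ∨ n = 1 by omega) with rfl | rfl
    · haveI : Subsingleton (P ⧸ Subgroup.center P) :=
        (Nat.card_eq_one_iff_unique.1 (by simpa using hc)).1
      infer_instance
    · exact isCyclic_of_prime_card (by simpa using hc)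
  exact hna ⟨⟨commutative_of_cyclic_center_quotient (QuotientGroup.mk' (Subgroup.center P))
    (by rw [QuotientGroup.ker_mk'])⟩⟩

theorem sum_inv_sq_le (N : ℕ) (hN : 1 ≤ N) :
    ∑ n ∈ Finset.Icc 2 N, (1 : ℚ) / (n : ℚ) ^ 2 ≤ 1 - 1 / (N : ℚ) := by
  induction N, hN using Nat.le_induction with
  | base => simp
  | succ n hn ih =>
    rw [Finset.sum_Icc_succ_top (by omega)]
    have h0 : (0 : ℚ) < n := by exact_mod_cast hn
    have key : (1 : ℚ) / ((n + 1 : ℕ) : ℚ) ^ 2 ≤ 1 / (n : ℚ) - 1 / ((n + 1 : ℕ) : ℚ) := by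
      push_cast
      rw [div_sub_div _ _ h0.ne' (by positivity), div_le_div_iff₀ (by positivity) (by positivity)]
      nlinarith
    linarith

variable {L : Type*} [Group L] [MulAction L T]

/-- The hypotheses on the operator group. -/
structure IsOperatorData (L T : Type*) [Group L] [Group T] [MulAction L T] : Prop where
  map_mul : ∀ (l : L) (x y : T), Commute x y → l • (x * y) = (l • x) * (l • y) ∧ Commute (l • x) (l • y)
  inner : ∀ x : T, ∃ l : L, ∀ y : T, l • y = x * y * x⁻¹
  coatom : ∀ t : T, t ≠ 1 → IsCoatom (stabilizer L t)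

variable (h : IsOperatorData L T)

include h

omit [Finite T] in
theorem smul_one' (l : L) : l • (1 : T) = 1 := by
  have := (h.map_mul l 1 1 (Commute.refl 1)).1
  rw [mul_one] at this
  exact left_eq_mul.1 this

omit [Finite T] in
theorem smul_pow' (l : L) (x : T) (n : ℕ) : l • (x ^ n) = (l • x) ^ n := by
  induction n with
  | zero => rw [pow_zero, pow_zero, smul_one' h]
  | succ n ih => rw [pow_succ, pow_succ, (h.map_mul l _ x ((Commute.refl x).pow_left n)).1, ih]

omit [Finite T] in
theorem stabilizer_pow (t : T) (n : ℕ) (hn : t ^ n ≠ 1) :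
    stabilizer L (t ^ n) = stabilizer L t := by
  have hle : stabilizer L t ≤ stabilizer L (t ^ n) := fun l hl => by
    rw [mem_stabilizer_iff] at hl ⊢
    rw [smul_pow' h, hl]
  have ht : t ≠ 1 := fun e => hn (by rw [e, one_pow])
  rcases ((h.coatom t ht).le_iff).1 hle with e | e
  · exact absurd e (h.coatom _ hn).1
  · exact e

omit [Finite T] in
theorem centralizer_eq_of_stabilizer_eq {t u : T} (e : stabilizer L t = stabilizer L u) :
    Subgroup.centralizer ({t} : Set T) = Subgroup.centralizer ({u} : Set T) := by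
  ext x
  obtain ⟨l, hl⟩ := h.inner x
  have key : ∀ w : T, x ∈ Subgroup.centralizer ({w} : Set T) ↔ l ∈ stabilizer L w := fun w => by
    rw [Subgroup.mem_centralizer_singleton_iff, mem_stabilizer_iff, hl, mul_inv_eq_iff_eq_mul]
  rw [key, key, e]

omit [Finite T] in
theorem centralizer_pow (t : T) (n : ℕ) (hn : t ^ n ≠ 1) :
    Subgroup.centralizer ({t ^ n} : Set T) = Subgroup.centralizer ({t} : Set T) :=
  centralizer_eq_of_stabilizer_eq h (stabilizer_pow h t n hn)

/-- Commuting elements of distinct prime orders have the same centraliser. -/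
theorem centralizer_eq_of_coprime {t v : T} {p q : ℕ} (hp : p.Prime) (hq : q.Prime) (hpq : p ≠ q)
    (ht : orderOf t = p) (hv : orderOf v = q) (hc : Commute t v) :
    Subgroup.centralizer ({t} : Set T) = Subgroup.centralizer ({v} : Set T) := by
  have ne_one : ∀ {a : T} {m n : ℕ}, m.Prime → n.Prime → m ≠ n → orderOf a = m → a ^ n ≠ 1 := by
    intro a m n hm hn hmn ha e
    have := orderOf_dvd_of_pow_eq_one e
    rw [ha, Nat.prime_dvd_prime_iff_eq hm hn] at this
    exact hmn this
  have e1 : (t * v) ^ q = t ^ q := by rw [hc.mul_pow, ← hv, pow_orderOf_eq_one, mul_one]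
  have e2 : (t * v) ^ p = v ^ p := by rw [hc.mul_pow, ← ht, pow_orderOf_eq_one, one_mul]
  have h1 : t ^ q ≠ 1 := ne_one hp hq hpq ht
  have h2 : v ^ p ≠ 1 := ne_one hq hp hpq.symm hv
  rw [← centralizer_pow h t q h1, ← e1, centralizer_pow h _ q (e1 ▸ h1),
    ← centralizer_pow h v p h2, ← e2, centralizer_pow h _ p (e2 ▸ h2)]

variable [hs : IsSimpleGroup T]

/-- Centralisers are self-normalising. -/
theorem mem_of_normalizes (hna : ¬ IsMulCommutative T) {t : T} (ht : t ≠ 1) {n : T}
    (hn : ∀ b ∈ Subgroup.centralizer ({t} : Set T), n * b * n⁻¹ ∈ Subgroup.centralizer ({t} : Set T)) :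
    n ∈ Subgroup.centralizer ({t} : Set T) := by
  set X := Subgroup.centralizer ({t} : Set T) with hX
  let K : Subgroup L :=
    { carrier := {l | ∀ y : T, l • y ∈ X ↔ y ∈ X}
      one_mem' := fun y => by rw [one_smul]
      mul_mem' := fun {a b} ha hb y => by rw [mul_smul, ha, hb]
      inv_mem' := fun {a} ha y => by rw [← ha (a⁻¹ • y), smul_inv_smul] }
  have hfwd : ∀ l : L, (∀ y ∈ X, l • y ∈ X) → l ∈ K := by
    intro l hl y
    refine ⟨fun hy => ?_, hl y⟩
    have hsurj : Function.Surjective fun x : X => (⟨l • (x : T), hl x x.2⟩ : X) :=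
      Finite.surjective_of_injective fun a b e =>
        Subtype.ext (MulAction.injective l (congrArg Subtype.val e))
    obtain ⟨⟨x, hx⟩, e⟩ := hsurj ⟨l • y, hy⟩
    rwa [← MulAction.injective l (congrArg Subtype.val e)]
  have hle : stabilizer L t ≤ K := fun l hl => hfwd l fun y hy => by
    rw [hX, Subgroup.mem_centralizer_singleton_iff] at hy ⊢
    have := (h.map_mul l y t hy).2
    rwa [mem_stabilizer_iff.1 hl] at this
  rcases ((h.coatom t ht).le_iff).1 hle with e | e
  · exfalso
    have hXn : X.Normal := ⟨fun y hy x => by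
      obtain ⟨l, hl⟩ := h.inner x
      rw [← hl]
      exact ((e ▸ Subgroup.mem_top l : l ∈ K) y).2 hy⟩
    rcases hXn.eq_bot_or_eq_top with e' | e'
    · exact ht (Subgroup.mem_bot.1 (e' ▸ Subgroup.mem_centralizer_singleton_iff.2 rfl))
    · have hcen : t ∈ Subgroup.center T := Subgroup.mem_center_iff.2 fun g =>
        Subgroup.mem_centralizer_singleton_iff.1 (e' ▸ Subgroup.mem_top g : g ∈ X)
      rcases (inferInstance : (Subgroup.center T).Normal).eq_bot_or_eq_top with e'' | e''
      · exact ht (Subgroup.mem_bot.1 (e'' ▸ hcen))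
      · exact hna ⟨⟨fun u v => Subgroup.mem_center_iff.1 (e'' ▸ Subgroup.mem_top v) u⟩⟩
  · obtain ⟨l, hl⟩ := h.inner n
    have hlK : l ∈ K := hfwd l fun y hy => by rw [hl]; exact hn y hy
    rw [e, mem_stabilizer_iff, hl, mul_inv_eq_iff_eq_mul] at hlK
    rw [hX, Subgroup.mem_centralizer_singleton_iff]
    exact hlK

omit h in
/-- No Sylow subgroup of a nonabelian simple group is centralised by its normaliser. -/
theorem not_normalizer_le_centralizer (hna : ¬ IsMulCommutative T) {p : ℕ} [Fact p.Prime]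
    (P : Sylow p T) (hP1 : (P : Subgroup T) ≠ ⊥) :
    ¬ Subgroup.normalizer ((P : Subgroup T) : Set T) ≤ Subgroup.centralizer ((P : Subgroup T) : Set T) := by
  intro hP
  have hc := MonoidHom.ker_transferSylow_isComplement' P hP
  rcases (MonoidHom.normal_ker (MonoidHom.transferSylow P hP)).eq_bot_or_eq_top with e | e
  · rw [e, Subgroup.isComplement'_bot_left] at hc
    have hT : IsPGroup p T := fun g => by
      obtain ⟨k, hk⟩ := P.2 ⟨g, hc ▸ Subgroup.mem_top g⟩
      exact ⟨k, congrArg Subtype.val hk⟩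
    haveI := hT.center_nontrivial
    have hcen : Subgroup.center T = ⊤ :=
      (inferInstance : (Subgroup.center T).Normal).eq_bot_or_eq_top.resolve_left
        ((Subgroup.nontrivial_iff_ne_bot _).1 inferInstance)
    exact hna ⟨⟨fun u v => Subgroup.mem_center_iff.1 (hcen ▸ Subgroup.mem_top v) u⟩⟩
  · rw [e, Subgroup.isComplement'_top_left] at hc
    exact hP1 hc

/-- The centraliser of an element of prime order `p` is a nonabelian Sylow `p`-subgroup. -/
theorem exists_sylow_centralizer (hna : ¬ IsMulCommutative T) {p : ℕ} [hp : Fact p.Prime] {t : T}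
    (ht : orderOf t = p) : ∃ P : Sylow p T,
      Subgroup.centralizer ({t} : Set T) = (P : Subgroup T) ∧ ¬ IsMulCommutative (P : Subgroup T) ∧
      Subgroup.normalizer ((P : Subgroup T) : Set T) = (P : Subgroup T) := by
  have ht1 : t ≠ 1 := fun e => hp.out.ne_one (by rw [← ht, e, orderOf_one])
  set X := Subgroup.centralizer ({t} : Set T) with hX
  have hXn := fun n => mem_of_normalizes h hna ht1 (n := n)
  have htX : t ∈ X := Subgroup.mem_centralizer_singleton_iff.2 rfl
  by_cases hXp : IsPGroup p X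
  · obtain ⟨P, hP⟩ := hXp.exists_le_sylow
    have e : X = (P : Subgroup T) := eq_sylow_of_self_normalizing P hP fun n _ hn => hXn n hn
    have hPn : Subgroup.normalizer ((P : Subgroup T) : Set T) = (P : Subgroup T) := by
      refine le_antisymm (fun n hn => ?_) Subgroup.le_normalizer
      rw [← e] at hn ⊢
      exact hXn n fun b hb => (Subgroup.mem_normalizer_iff.1 hn b).1 hb
    refine ⟨P, e, fun hab => not_normalizer_le_centralizer hna P ?_ ?_, hPn⟩
    · intro e'
      rw [e, e', Subgroup.mem_bot] at htX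
      exact ht1 htX
    · rw [hPn]
      exact fun x hx => Subgroup.mem_centralizer_iff.2 fun y hy =>
        congrArg Subtype.val (hab.is_comm.comm (⟨y, hy⟩ : (P : Subgroup T)) ⟨x, hx⟩)
  exfalso
  obtain ⟨v, hvX, q, hq, hqp, hvq⟩ := exists_prime_order_ne p hp.out hXp
  have hXv : Subgroup.centralizer ({v} : Set T) = X :=
    (centralizer_eq_of_coprime h hp.out hq hqp.symm ht hvq
      (Subgroup.mem_centralizer_singleton_iff.1 hvX).symm).symm
  -- every nontrivial element of `X` has centraliser `X`
  have hall : ∀ x ∈ X, x ≠ 1 → Subgroup.centralizer ({x} : Set T) = X := by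
    intro x hx hx1
    obtain ⟨r, hr, hrd⟩ := Nat.exists_prime_and_dvd (fun e => hx1 (orderOf_eq_one_iff.1 e) : orderOf x ≠ 1)
    have hord : orderOf (x ^ (orderOf x / r)) = r := orderOf_pow_orderOf_div (orderOf_pos x).ne' hrd
    have hx' : x ^ (orderOf x / r) ≠ 1 := fun e => hr.ne_one (by rw [← hord, e, orderOf_one])
    rw [← centralizer_pow h x _ hx']
    by_cases hrp : r = p
    · have hc : Commute v (x ^ (orderOf x / r)) := by
        have hxv : x ∈ Subgroup.centralizer ({v} : Set T) := hXv.symm ▸ hx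
        exact ((show Commute x v from Subgroup.mem_centralizer_singleton_iff.1 hxv).symm).pow_right _
      rw [← centralizer_eq_of_coprime h hq hr (hrp ▸ hqp) hvq hord hc, hXv]
    · rw [← centralizer_eq_of_coprime h hp.out hr (Ne.symm hrp) ht hord
        ((show Commute x t from Subgroup.mem_centralizer_singleton_iff.1 hx).symm.pow_right _)]
  have hab : ∀ x ∈ X, ∀ y ∈ X, x * y = y * x := by
    intro x hx y hy
    rcases eq_or_ne y 1 with rfl | hy1
    · simp
    · exact Subgroup.mem_centralizer_singleton_iff.1 ((hall y hy hy1).symm ▸ hx)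
  obtain ⟨P, hP⟩ := (show IsPGroup p (Subgroup.zpowers t) from
    IsPGroup.of_card (n := 1) (by rw [Nat.card_zpowers, ht, pow_one])).exists_le_sylow
  have htP : t ∈ (P : Subgroup T) := hP (Subgroup.mem_zpowers t)
  -- a conjugator keeping `t` inside `X` lies in `X`
  have hkey : ∀ n : T, n * t * n⁻¹ ∈ X → n ∈ X := by
    intro n hn
    refine hXn n fun b hb => ?_
    show n * b * n⁻¹ ∈ X
    rw [← hall _ hn (fun e => ht1 (conj_eq_one_iff.1 e)), Subgroup.mem_centralizer_singleton_iff]
    have hb' : b * t = t * b := Subgroup.mem_centralizer_singleton_iff.1 hb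
    calc n * b * n⁻¹ * (n * t * n⁻¹) = n * (b * t) * n⁻¹ := by group
      _ = n * (t * b) * n⁻¹ := by rw [hb']
      _ = n * t * n⁻¹ * (n * b * n⁻¹) := by group
  have hPX : (P : Subgroup T) ≤ X := by
    have e : (P : Subgroup T) ⊓ X = (P : Subgroup T) :=
      eq_sylow_of_self_normalizing P inf_le_left fun n hnP hn => ⟨hnP, hkey n (hn t ⟨htP, htX⟩).2⟩
    exact inf_eq_left.1 e
  refine not_normalizer_le_centralizer hna P (fun e => ht1 (Subgroup.mem_bot.1 (e ▸ htP))) ?_
  intro n hn
  have hnX : n ∈ X := hkey n (hPX ((Subgroup.mem_normalizer_iff.1 hn t).1 htP))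
  exact Subgroup.mem_centralizer_iff.2 fun y hy => hab y (hPX hy) n hnX

/-- The main result: the situation is impossible. -/
theorem false_of_operatorData (hna : ¬ IsMulCommutative T) : False := by
  classical
  haveI := Fintype.ofFinite T
  let Z : Subgroup T → Subgroup T := fun P => (Subgroup.center P).map P.subtype
  let C : ℕ → Finset T := fun p =>
    Finset.univ.filter fun t => t ≠ 1 ∧ ∃ P : Sylow p T, t ∈ Z (P : Subgroup T)
  have hN : 0 < Nat.card T := Nat.card_pos
  have hmem : ∀ t : T, t ≠ 1 → ∃ p ∈ (Nat.card T).primeFactors, t ∈ C p := by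
    intro t ht
    obtain ⟨p, hp, hpd⟩ := Nat.exists_prime_and_dvd (fun e => ht (orderOf_eq_one_iff.1 e) : orderOf t ≠ 1)
    haveI := Fact.mk hp
    refine ⟨p, Nat.mem_primeFactors.2 ⟨hp, hpd.trans (orderOf_dvd_natCard t), hN.ne'⟩, ?_⟩
    have hord : orderOf (t ^ (orderOf t / p)) = p := orderOf_pow_orderOf_div (orderOf_pos t).ne' hpd
    have ht' : t ^ (orderOf t / p) ≠ 1 := fun e => hp.ne_one (by rw [← hord, e, orderOf_one])
    obtain ⟨P, hPX, -, -⟩ := exists_sylow_centralizer h hna hord
    rw [centralizer_pow h t _ ht'] at hPX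
    refine Finset.mem_filter.2 ⟨Finset.mem_univ _, ht, P, ?_⟩
    have htP : t ∈ (P : Subgroup T) := hPX ▸ Subgroup.mem_centralizer_singleton_iff.2 rfl
    refine ⟨⟨t, htP⟩, Subgroup.mem_center_iff.2 fun y => Subtype.ext ?_, rfl⟩
    have hy : (y : T) ∈ Subgroup.centralizer ({t} : Set T) := hPX.symm ▸ y.2
    exact Subgroup.mem_centralizer_singleton_iff.1 hy
  have hbound : ∀ p ∈ (Nat.card T).primeFactors,
      ((C p).card : ℚ) < (Nat.card T : ℚ) * (1 / (p : ℚ) ^ 2) := by
    intro p hp
    obtain ⟨hp, hpd, -⟩ := Nat.mem_primeFactors.1 hp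
    haveI := Fact.mk hp
    obtain ⟨t, ht⟩ := exists_prime_orderOf_dvd_card' p hpd
    obtain ⟨P₀, -, hna₀, hnorm⟩ := exists_sylow_centralizer h hna ht
    set Q₀ : Subgroup T := (P₀ : Subgroup T) with hQ₀
    set z := Nat.card (Subgroup.center Q₀) with hz
    have hzpos : 0 < z := Nat.card_pos
    have hzP : z * p ^ 2 ≤ Nat.card Q₀ := card_center_mul_sq_le P₀.2 hna₀
    have hcardZ : ∀ P : Sylow p T, Nat.card (Z (P : Subgroup T)) = z := fun P => by
      rw [Subgroup.card_map_of_injective (Subgroup.subtype_injective _)]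
      exact Nat.card_congr (Subgroup.centerCongr (P.equiv P₀)).toEquiv
    have hsub : C p ⊆ Finset.univ.biUnion fun P : Sylow p T =>
        ((Z (P : Subgroup T) : Set T).toFinset).erase 1 := by
      intro t ht
      obtain ⟨-, ht1, P, htP⟩ := Finset.mem_filter.1 ht
      exact Finset.mem_biUnion.2 ⟨P, Finset.mem_univ _, Finset.mem_erase.2 ⟨ht1, Set.mem_toFinset.2 htP⟩⟩
    have hC : (C p).card ≤ Nat.card (Sylow p T) * (z - 1) := by
      refine (Finset.card_le_card hsub).trans (Finset.card_biUnion_le.trans ?_)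
      refine (Finset.sum_le_card_nsmul _ _ (z - 1) fun P _ => ?_).trans ?_
      · rw [Finset.card_erase_of_mem (Set.mem_toFinset.2 (Z (P : Subgroup T)).one_mem),
          Set.toFinset_card, ← hcardZ P, Nat.card_eq_fintype_card]
        exact le_of_eq rfl
      · rw [Finset.card_univ, ← Nat.card_eq_fintype_card, smul_eq_mul]
    have hidx : Nat.card (Sylow p T) * Nat.card Q₀ = Nat.card T := by
      have e : Nat.card (Sylow p T) = Q₀.index := by
        rw [P₀.card_eq_index_normalizer]; exact congrArg Subgroup.index hnorm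
      rw [e, mul_comm, Subgroup.card_mul_index]
    have hlt : (C p).card * p ^ 2 < Nat.card T := by
      calc (C p).card * p ^ 2 ≤ Nat.card (Sylow p T) * (z - 1) * p ^ 2 := Nat.mul_le_mul_right _ hC
        _ < Nat.card (Sylow p T) * z * p ^ 2 :=
            Nat.mul_lt_mul_of_pos_right (Nat.mul_lt_mul_of_pos_left (by omega) Nat.card_pos)
              (pow_pos hp.pos 2)
        _ ≤ Nat.card (Sylow p T) * Nat.card Q₀ := by
            rw [mul_assoc]; exact Nat.mul_le_mul_left _ hzP
        _ = Nat.card T := hidx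
    rw [mul_one_div, lt_div_iff₀ (by have := hp.pos; positivity)]
    exact_mod_cast hlt
  have hne : (Nat.card T).primeFactors.Nonempty := by
    obtain ⟨p, hp, hpd⟩ := Nat.exists_prime_and_dvd
      (show Nat.card T ≠ 1 from fun e => hna ⟨⟨fun u v => by
        haveI := (Nat.card_eq_one_iff_unique.1 e).1
        exact Subsingleton.elim _ _⟩⟩)
    exact ⟨p, Nat.mem_primeFactors.2 ⟨hp, hpd, hN.ne'⟩⟩
  have hsub : (Finset.univ : Finset T).erase 1 ⊆ (Nat.card T).primeFactors.biUnion C := fun t ht => by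
    obtain ⟨p, hp, htp⟩ := hmem t (Finset.ne_of_mem_erase ht)
    exact Finset.mem_biUnion.2 ⟨p, hp, htp⟩
  have h1 := (Finset.card_le_card hsub).trans Finset.card_biUnion_le
  rw [Finset.card_erase_of_mem (Finset.mem_univ _), Finset.card_univ, ← Nat.card_eq_fintype_card] at h1
  have h2 : ((Nat.card T - 1 : ℕ) : ℚ) < (Nat.card T : ℚ) *
      ∑ p ∈ (Nat.card T).primeFactors, 1 / (p : ℚ) ^ 2 := by
    calc ((Nat.card T - 1 : ℕ) : ℚ) ≤ ∑ p ∈ (Nat.card T).primeFactors, ((C p).card : ℚ) := by
          exact_mod_cast h1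
      _ < _ := by rw [Finset.mul_sum]; exact Finset.sum_lt_sum_of_nonempty hne hbound
  have h3 : ∑ p ∈ (Nat.card T).primeFactors, 1 / (p : ℚ) ^ 2 ≤ 1 - 1 / (Nat.card T : ℚ) :=
    le_trans (Finset.sum_le_sum_of_subset_of_nonneg
      (fun p hp => Finset.mem_Icc.2 ⟨(Nat.prime_of_mem_primeFactors hp).two_le,
        Nat.le_of_mem_primeFactors hp⟩) fun _ _ _ => by positivity) (sum_inv_sq_le _ hN)
  have h4 : (0 : ℚ) < (Nat.card T : ℚ) := by exact_mod_cast hN
  have h5 : ((Nat.card T - 1 : ℕ) : ℚ) < (Nat.card T : ℚ) * (1 - 1 / (Nat.card T : ℚ)) :=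
    h2.trans_le (mul_le_mul_of_nonneg_left h3 h4.le)
  rw [Nat.cast_sub hN, mul_sub, mul_one, mul_one_div_cancel h4.ne', Nat.cast_one] at h5
  exact lt_irrefl _ h5

end CfsgLib.Perm.CentMax
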