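import Mathlib
import Cfsg.Agent.Perm.DerangementClasses

/-! Derangement classes of affine and of sharply two-transitive groups. -/

set_option autoImplicit false

namespace CfsgLib.Perm.DerangementAffine

open MulAction

variable {G : Type*} [Group G] [Finite G] {X : Type*} [MulAction G X] [FaithfulSMul G X] [Finite X]

/-- The derangement classes. -/
def dClasses (G : Type*) [Group G] (X : Type*) [MulAction G X] : Set (ConjClasses G) :=
  {c | ∃ g : G, ConjClasses.mk g = c ∧ ∀ ω : X, g • ω ≠ ω}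

theorem mk_mem_dClasses {g : G} (hg : ∀ ω : X, g • ω ≠ ω) : ConjClasses.mk g ∈ dClasses G X := ⟨g, rfl, hg⟩

theorem derangement_of_mk_mem {g : G} (hg : ConjClasses.mk g ∈ dClasses G X) : ∀ ω : X, g • ω ≠ ω := by
  obtain ⟨g', he, hg'⟩ := hg
  obtain ⟨c, rfl⟩ := isConj_iff.1 (ConjClasses.mk_eq_mk_iff_isConj.1 he)
  intro ω hω
  rw [mul_smul, mul_smul, smul_eq_iff_eq_inv_smul] at hω
  exact hg' _ hω

theorem exists_conj_in_stabilizer {N : Subgroup G} [IsPretransitive N X] (hNc : IsMulCommutative N)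
    (a : X) {v : G} (hv : v ∈ N) (g : G) :
    ∃ h ∈ stabilizer G a, g * v * g⁻¹ = h * v * h⁻¹ ∨ ¬ N.Normal := by
  by_cases hn : N.Normal
  · obtain ⟨n, hnN, h, hh, rfl⟩ := CfsgLib.MinNormal.exists_mul_of_transitive (N := N) a g
    refine ⟨h, hh, Or.inl ?_⟩
    have hm : h * v * h⁻¹ ∈ N := hn.conj_mem v hv h
    have hc : n * (h * v * h⁻¹) = (h * v * h⁻¹) * n := setLike_mul_comm (s := N) hnN hm
    calc n * h * v * (n * h)⁻¹ = n * (h * v * h⁻¹) * n⁻¹ := by group
      _ = h * v * h⁻¹ := by rw [hc, mul_inv_cancel_right]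
  · exact ⟨1, one_mem _, Or.inr hn⟩

theorem smul_conj_point {a : X} {h v : G} (hh : h ∈ stabilizer G a) : (h * v * h⁻¹) • a = h • v • a := by
  rw [mul_smul, mul_smul, show h⁻¹ • a = a from (stabilizer G a).inv_mem hh]

/-- If the non-identity elements of a regular abelian normal subgroup are conjugate, the group is 2-transitive. -/
theorem two_transitive {N : Subgroup G} [hn : N.Normal] [IsPretransitive G X] [IsPretransitive N X]
    (hNc : IsMulCommutative N) (h1 : ∀ v ∈ N, v ≠ 1 → ∀ w ∈ N, w ≠ 1 → IsConj v w) :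
    IsMultiplyPretransitive G X 2 := by
  rw [is_two_pretransitive_iff]
  intro a b c d hab hcd
  obtain ⟨g, rfl⟩ := exists_smul_eq G a c
  obtain ⟨v, hv⟩ := exists_smul_eq N a b
  obtain ⟨w, hw⟩ := exists_smul_eq N a (g⁻¹ • d)
  have hv1 : (v : G) ≠ 1 := fun e => hab (by rw [← hv, Subgroup.smul_def, e, one_smul])
  have hw1 : (w : G) ≠ 1 := fun e => hcd (by
    rw [Subgroup.smul_def, e, one_smul] at hw
    calc g • a = g • g⁻¹ • d := by rw [← hw]
      _ = d := smul_inv_smul g d)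
  obtain ⟨k, hk⟩ := isConj_iff.1 (h1 v v.2 hv1 w w.2 hw1)
  obtain ⟨h, hh, h' | h'⟩ := exists_conj_in_stabilizer (N := N) hNc a v.2 k
  · refine ⟨g * h, by rw [mul_smul, mem_stabilizer_iff.1 hh], ?_⟩
    have hv' : (v : G) • a = b := hv
    have hw' : (w : G) • a = g⁻¹ • d := hw
    rw [mul_smul, ← hv', ← smul_conj_point hh, ← h', hk, hw', smul_inv_smul]
  · exact absurd hn h'

/-- A class inside a regular abelian normal subgroup, when stabilizers are semiregular elsewhere. -/
theorem ncard_carrier_eq {N : Subgroup G} [hn : N.Normal] [IsPretransitive N X] (hNc : IsMulCommutative N)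
    (hsharp : ∀ g : G, g ≠ 1 → ∀ a b : X, a ≠ b → g • a = a → g • b ≠ b)
    (a : X) {v : G} (hv : v ∈ N) (hder : ∀ ω : X, v • ω ≠ ω) :
    (ConjClasses.mk v).carrier.ncard = Nat.card (stabilizer G a) := by
  rw [← Nat.card_coe_set_eq]
  refine (Nat.card_eq_of_bijective (fun h : stabilizer G a =>
    (⟨(h : G) * v * (h : G)⁻¹, ConjClasses.mem_carrier_iff_mk_eq.2
      (ConjClasses.mk_eq_mk_iff_isConj.2 (isConj_iff.2 ⟨(h : G)⁻¹, by group⟩))⟩ :
      (ConjClasses.mk v).carrier)) ⟨fun h h' e => ?_, fun x => ?_⟩).symm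
  · have e' : (h : G) * v * (h : G)⁻¹ = (h' : G) * v * (h' : G)⁻¹ := congrArg Subtype.val e
    by_contra hne
    have hd : (h' : G)⁻¹ * h ≠ 1 := fun e => hne (Subtype.ext (inv_mul_eq_one.1 e).symm)
    have hda : ((h' : G)⁻¹ * h) • a = a := (stabilizer G a).mul_mem ((stabilizer G a).inv_mem h'.2) h.2
    have hcomm : ((h' : G)⁻¹ * h) * v = v * ((h' : G)⁻¹ * h) := by
      calc ((h' : G)⁻¹ * h) * v = (h' : G)⁻¹ * ((h : G) * v * (h : G)⁻¹) * h := by group
        _ = (h' : G)⁻¹ * ((h' : G) * v * (h' : G)⁻¹) * h := by rw [e']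
        _ = v * ((h' : G)⁻¹ * h) := by group
    refine hsharp _ hd a (v • a) (fun e => hder a e.symm) hda ?_
    rw [smul_smul, hcomm, mul_smul, hda]
  · obtain ⟨g, hg⟩ := isConj_iff.1 (ConjClasses.mk_eq_mk_iff_isConj.1 (ConjClasses.mem_carrier_iff_mk_eq.1 x.2)).symm
    obtain ⟨h, hh, h' | h'⟩ := exists_conj_in_stabilizer (N := N) hNc a hv g
    · exact ⟨⟨h, hh⟩, Subtype.ext (h'.symm.trans hg)⟩
    · exact absurd hn h'

/-- In a group where non-identity elements fix at most one point there are `n - 1` derangements. -/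
theorem card_derangements [IsPretransitive G X] [Nonempty X]
    (hsharp : ∀ g : G, g ≠ 1 → ∀ a b : X, a ≠ b → g • a = a → g • b ≠ b) :
    {g : G | ∀ ω : X, g • ω ≠ ω}.ncard + 1 = Nat.card X := by
  classical
  haveI := Fintype.ofFinite G
  have h := sum_fix_eq_orbits G X
  rw [card_orbits_eq_one G X, one_mul] at h
  have hle : ∀ g : G, g ≠ 1 → Nat.card (fixedBy X g) = if ∀ ω : X, g • ω ≠ ω then 0 else 1 := by
    intro g hg
    haveI : Subsingleton (fixedBy X g) := ⟨fun x y => Subtype.ext (by_contra fun hne => hsharp g hg _ _ hne x.2 y.2)⟩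
    split_ifs with hd
    · haveI : IsEmpty (fixedBy X g) := ⟨fun x => hd x x.2⟩
      exact Nat.card_of_isEmpty
    · push Not at hd
      obtain ⟨ω, hω⟩ := hd
      haveI : Nonempty (fixedBy X g) := ⟨⟨ω, hω⟩⟩
      exact Nat.card_eq_one_iff_unique.2 ⟨inferInstance, inferInstance⟩
  rw [← Finset.add_sum_erase _ _ (Finset.mem_univ (1 : G)),
    Finset.sum_congr rfl (fun g hg => hle g (Finset.mem_erase.1 hg).1)] at h
  have h1 : Nat.card (fixedBy X (1 : G)) = Nat.card X := Nat.card_congr (Equiv.subtypeUnivEquiv fun ω => one_smul G ω)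
  have h2 : ∑ g ∈ Finset.univ.erase (1 : G), (if ∀ ω : X, g • ω ≠ ω then 0 else 1) +
      (Finset.univ.erase (1 : G)).card.succ =
      ∑ g ∈ Finset.univ.erase (1 : G), (if ∀ ω : X, g • ω ≠ ω then 0 else 1) + Fintype.card G := by
    rw [Finset.card_erase_of_mem (Finset.mem_univ _), Finset.card_univ, Nat.succ_eq_add_one,
      Nat.sub_add_cancel Fintype.card_pos]
  have h3 : ((Finset.univ.erase (1 : G)).filter fun g => ∀ ω : X, g • ω ≠ ω).card =
      {g : G | ∀ ω : X, g • ω ≠ ω}.ncard := by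
    rw [← Set.ncard_coe_finset]
    congr 1
    ext g
    simp only [Finset.coe_filter, Finset.mem_erase, Finset.mem_univ, and_true, Set.mem_setOf_eq, and_iff_right_iff_imp]
    rintro hg rfl
    exact hg (Classical.arbitrary X) (one_smul G _)
  have h4 := Finset.sum_boole (fun g : G => ¬ ∀ ω : X, g • ω ≠ ω) (Finset.univ.erase (1 : G)) (R := ℕ)
  have h5 := Finset.card_filter_add_card_filter_not (s := Finset.univ.erase (1 : G)) (fun g => ∀ ω : X, g • ω ≠ ω)
  rw [h1] at h
  simp only [Nat.cast_id, ite_not] at h4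
  omega

end CfsgLib.Perm.DerangementAffine
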