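import Mathlib

/-! Manning's theorem on extremely primitive permutation groups. -/

set_option autoImplicit false

namespace CfsgLib.Perm

open MulAction
open scoped Pointwise

variable {G : Type*} [Group G] {Ω : Type*} [MulAction G Ω]

/-- Every point stabilizer is primitive on each of its orbits. -/
def IsExtremelyPrimitive (G : Type*) [Group G] (Ω : Type*) [MulAction G Ω] : Prop :=
  ∀ (α : Ω) (ω : Ω), IsPreprimitive (stabilizer G α) (orbit (stabilizer G α) ω)

/-- In a faithful primitive action with non-trivial stabilizers, a stabilizer fixes one point only. -/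
theorem eq_of_stabilizer_le [FaithfulSMul G Ω] [IsPreprimitive G Ω]
    (hH : ∀ α : Ω, stabilizer G α ≠ ⊥) {a b : Ω} (h : stabilizer G a ≤ stabilizer G b) : b = a := by
  by_contra hne
  haveI : Nontrivial Ω := ⟨⟨b, a, hne⟩⟩
  have he : stabilizer G b = stabilizer G a := by
    rcases (IsPreprimitive.isCoatom_stabilizer_of_isPreprimitive (G := G) a).le_iff.mp h with h1 | h1
    · exact absurd h1 (IsPreprimitive.isCoatom_stabilizer_of_isPreprimitive (G := G) b).1
    · exact h1
  have hB : IsBlock G (fixedPoints (stabilizer G a) Ω) := by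
    rw [isBlock_iff_smul_eq_of_nonempty]
    intro g hg
    obtain ⟨y, hy, hy'⟩ := hg
    obtain ⟨x, hx, rfl⟩ := hy
    have key : ∀ z, z ∈ fixedPoints (stabilizer G a) Ω ↔ stabilizer G a ≤ stabilizer G z := by
      intro z
      exact ⟨fun hz m hm => hz ⟨m, hm⟩, fun hz m => hz m.2⟩
    have kx : stabilizer G x = stabilizer G a :=
      ((IsPreprimitive.isCoatom_stabilizer_of_isPreprimitive (G := G) a).le_iff.mp ((key x).mp hx)).resolve_left
        (IsPreprimitive.isCoatom_stabilizer_of_isPreprimitive (G := G) x).1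
    have kgx : stabilizer G (g • x) = stabilizer G a :=
      ((IsPreprimitive.isCoatom_stabilizer_of_isPreprimitive (G := G) a).le_iff.mp ((key _).mp hy')).resolve_left
        (IsPreprimitive.isCoatom_stabilizer_of_isPreprimitive (G := G) _).1
    rw [stabilizer_smul_eq_stabilizer_map_conj, kx] at kgx
    ext z
    rw [Set.mem_smul_set_iff_inv_smul_mem, key, key]
    have : stabilizer G z = (stabilizer G (g⁻¹ • z)).map (MulAut.conj g).toMonoidHom := by
      conv_lhs => rw [show z = g • (g⁻¹ • z) by simp]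
      exact stabilizer_smul_eq_stabilizer_map_conj g _
    conv_rhs => rw [this, ← kgx]
    exact (Subgroup.map_le_map_iff_of_injective (MulAut.conj g).injective).symm
  rcases hB.subsingleton_or_eq_univ with hs | hu
  · exact hne (hs (fun m => (he.symm ▸ m.2 : (m : G) ∈ stabilizer G b)) fun m => m.2)
  · refine hH a ((Subgroup.eq_bot_iff_forall _).mpr fun g hg => eq_of_smul_eq_smul (α := Ω) fun z => ?_)
    have hz : z ∈ fixedPoints (stabilizer G a) Ω := by rw [hu]; trivial
    rw [one_smul]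
    exact hz ⟨g, hg⟩

/-- A subgroup normalized by the stabilizer of `α` that moves a point of one of its orbits is
transitive on that orbit. -/
theorem exists_smul_eq_of_normalized (hep : IsExtremelyPrimitive G Ω) (α z : Ω) (K : Subgroup G)
    (hK : K ≤ stabilizer G α) (hKn : stabilizer G α ≤ Subgroup.normalizer (K : Set G))
    (hmove : ∃ k ∈ K, ∃ x ∈ orbit (stabilizer G α) z, k • x ≠ x)
    {x y : Ω} (hx : x ∈ orbit (stabilizer G α) z) (hy : y ∈ orbit (stabilizer G α) z) :
    ∃ k ∈ K, k • x = y := by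
  haveI := hep α z
  haveI : (K.subgroupOf (stabilizer G α)).Normal := (Subgroup.normal_subgroupOf_iff_le_normalizer hK).mpr hKn
  have hne : fixedPoints (K.subgroupOf (stabilizer G α)) (orbit (stabilizer G α) z) ≠ Set.univ := by
    obtain ⟨k, hk, w, hw, hkw⟩ := hmove
    intro hu
    have : (⟨w, hw⟩ : orbit (stabilizer G α) z) ∈
        fixedPoints (K.subgroupOf (stabilizer G α)) (orbit (stabilizer G α) z) := by rw [hu]; trivial
    exact hkw (congrArg Subtype.val (this ⟨⟨k, hK hk⟩, hk⟩))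
  haveI := IsQuasiPreprimitive.isPretransitive_of_normal (G := stabilizer G α) hne
  obtain ⟨k, hk⟩ := exists_smul_eq (K.subgroupOf (stabilizer G α))
    (⟨x, hx⟩ : orbit (stabilizer G α) z) ⟨y, hy⟩
  exact ⟨((k : stabilizer G α) : G), k.2, congrArg Subtype.val hk⟩

theorem orbit_stabilizer_smul (g : G) (a b : Ω) :
    orbit (stabilizer G (g • a)) (g • b) = g • orbit (stabilizer G a) b := by
  ext z
  constructor
  · rintro ⟨⟨m, hm⟩, rfl⟩
    have hm' : m • g • a = g • a := hm
    refine ⟨(g⁻¹ * m * g) • b, ⟨⟨g⁻¹ * m * g, ?_⟩, rfl⟩, ?_⟩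
    · simp [mem_stabilizer_iff, mul_smul, hm']
    · simp only [smul_smul, Subgroup.mk_smul]
      group
  · rintro ⟨_, ⟨⟨m, hm⟩, rfl⟩, rfl⟩
    have hm' : m • a = a := hm
    refine ⟨⟨g * m * g⁻¹, ?_⟩, ?_⟩
    · simp [mem_stabilizer_iff, mul_smul, hm']
    · simp only [smul_smul, Subgroup.mk_smul]
      group

variable [Finite G] [Finite Ω] [FaithfulSMul G Ω]

/-- Manning: an element of a stabilizer fixing a non-trivial suborbit pointwise is trivial. -/
theorem eq_one_of_fixes_suborbit [IsPreprimitive G Ω] (hH : ∀ α : Ω, stabilizer G α ≠ ⊥)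
    (hep : IsExtremelyPrimitive G Ω) {α ω : Ω} (hω : ω ≠ α) {h : G} (hh : h ∈ stabilizer G α)
    (hfix : ∀ x ∈ orbit (stabilizer G α) ω, h • x = x) : h = 1 := by
  classical
  haveI : Nonempty Ω := ⟨α⟩
  obtain ⟨⟨a₀, b₀⟩, hmax⟩ := Finite.exists_max (fun p : Ω × Ω => (orbit (stabilizer G p.1) p.2).ncard)
  obtain ⟨g, rfl⟩ := exists_smul_eq G a₀ α
  set α := g • a₀ with hα
  set x₀ := g • b₀ with hx₀
  set H := stabilizer G α with hHdef
  set Γ := orbit H x₀ with hΓ
  have hΓmax : ∀ a b : Ω, (orbit (stabilizer G a) b).ncard ≤ Γ.ncard := fun a b => by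
    have : Γ = g • orbit (stabilizer G a₀) b₀ := orbit_stabilizer_smul g a₀ b₀
    rw [this, Set.ncard_smul_set]
    exact hmax (a, b)
  have hx₀ne : x₀ ≠ α := by
    intro he
    have h1 : Γ = {α} := by
      refine Set.eq_singleton_iff_unique_mem.mpr ⟨he ▸ mem_orbit_self x₀, ?_⟩
      rintro _ ⟨m, rfl⟩
      rw [he]
      exact m.2
    have h2 := hΓmax α ω
    rw [h1, Set.ncard_singleton, Set.ncard_le_one_iff_subsingleton] at h2
    exact hω (eq_of_stabilizer_le hH fun m hm => h2 (⟨⟨m, hm⟩, rfl⟩) (mem_orbit_self ω))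
  -- no two-point stabilizer is transitive on the largest suborbit
  have main : ∀ γ : Ω, γ ≠ α → ¬ ∀ y ∈ Γ, ∃ m ∈ H, m • γ = γ ∧ m • x₀ = y := by
    intro γ hγ htr
    have hsub : Γ ⊆ orbit (stabilizer G γ) x₀ := by
      intro y hy
      obtain ⟨m, -, hm, hmy⟩ := htr y hy
      exact ⟨⟨m, hm⟩, hmy⟩
    have heq : Γ = orbit (stabilizer G γ) x₀ := Set.eq_of_subset_of_ncard_le hsub (hΓmax γ x₀)
    have h1 : H ≤ stabilizer G Γ := fun m hm => mem_stabilizer_iff.mpr (smul_orbit (⟨m, hm⟩ : H) x₀)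
    have h2 : stabilizer G γ ≤ stabilizer G Γ := fun m hm => by
      rw [mem_stabilizer_iff, heq]
      exact smul_orbit (⟨m, hm⟩ : stabilizer G γ) x₀
    haveI : Nontrivial Ω := ⟨⟨γ, α, hγ⟩⟩
    have htop : stabilizer G Γ = ⊤ := by
      refine ((IsPreprimitive.isCoatom_stabilizer_of_isPreprimitive (G := G) α).le_iff.mp h1).resolve_right ?_
      intro he
      exact hγ (eq_of_stabilizer_le hH (he ▸ h2)).symm
    obtain ⟨m, hm⟩ := exists_smul_eq G x₀ α
    have : α ∈ Γ := by
      have hm' : m • Γ = Γ := mem_stabilizer_iff.mp (htop ▸ Subgroup.mem_top m)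
      rw [← hm', ← hm]
      exact Set.smul_mem_smul_set (mem_orbit_self x₀)
    obtain ⟨k, hk⟩ := this
    have hk' : (k : G) • x₀ = α := hk
    have hk'' : (k : G) • α = α := k.2
    exact hx₀ne (MulAction.injective (k : G) (hk'.trans hk''.symm))
  -- the kernel of the action on the orbit of `ω`
  let K : Subgroup G := H ⊓ fixingSubgroup G (orbit H ω)
  have hKle : K ≤ H := inf_le_left
  have hKfix : ∀ k ∈ K, ∀ x ∈ orbit H ω, k • x = x := fun k hk x hx =>
    (mem_fixingSubgroup_iff G).mp hk.2 x hx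
  have hKn : H ≤ Subgroup.normalizer (K : Set G) := by
    intro m hm
    have step : ∀ m' ∈ H, ∀ k ∈ K, m' * k * m'⁻¹ ∈ K := by
      intro m' hm' k hk
      refine Subgroup.mem_inf.mpr ⟨mul_mem (mul_mem hm' (hKle hk)) (inv_mem hm'),
        (mem_fixingSubgroup_iff G).mpr fun x hx => ?_⟩
      have : m'⁻¹ • x ∈ orbit H ω := mem_orbit_of_mem_orbit (⟨m'⁻¹, inv_mem hm'⟩ : H) hx
      rw [mul_smul, mul_smul, hKfix k hk _ this, smul_inv_smul]
    rw [Subgroup.mem_normalizer_iff]
    refine fun k => ⟨fun hk => step m hm k hk, fun hk => ?_⟩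
    have := step m⁻¹ (inv_mem hm) _ hk
    simpa [mul_assoc] using this
  have hfixΓ : ∀ k ∈ K, ∀ x ∈ Γ, k • x = x := by
    by_contra hc
    push_neg at hc
    obtain ⟨k, hk, x, hx, hkx⟩ := hc
    refine main ω hω fun y hy => ?_
    obtain ⟨k', hk', h'⟩ := exists_smul_eq_of_normalized hep α x₀ K hKle hKn ⟨k, hk, x, hx, hkx⟩
      (mem_orbit_self x₀) hy
    exact ⟨k', hKle hk', hKfix k' hk' ω (mem_orbit_self ω), h'⟩
  refine eq_of_smul_eq_smul (α := Ω) fun z => ?_
  rw [one_smul]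
  by_contra hz
  have hzne : z ≠ α := fun e => hz (e ▸ hh)
  refine main z hzne fun y hy => ?_
  obtain ⟨m, rfl⟩ := hy
  obtain ⟨k, hk, hkz⟩ := exists_smul_eq_of_normalized hep α z K hKle hKn
    ⟨h, ⟨hh, (mem_fixingSubgroup_iff G).mpr hfix⟩, z, mem_orbit_self z, hz⟩
    (mem_orbit_self z) (⟨m, rfl⟩ : (m : G) • z ∈ orbit H z)
  refine ⟨k⁻¹ * m, mul_mem (inv_mem (hKle hk)) m.2, ?_, ?_⟩
  · rw [mul_smul, ← hkz, inv_smul_smul]
  · have hmem : (m : G) • x₀ ∈ Γ := ⟨m, rfl⟩
    rw [mul_smul, inv_smul_eq_iff]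
    exact (hfixΓ k hk _ hmem).symm

/-- A non-trivial normal subgroup of a stabilizer has the same orbits. -/
theorem orbit_eq_of_normalized [IsPreprimitive G Ω] (hH : ∀ α : Ω, stabilizer G α ≠ ⊥)
    (hep : IsExtremelyPrimitive G Ω) (α : Ω) (M : Subgroup G) (hM : M ≠ ⊥) (hMle : M ≤ stabilizer G α)
    (hMn : stabilizer G α ≤ Subgroup.normalizer (M : Set G)) (ω : Ω) :
    orbit M ω = orbit (stabilizer G α) ω := by
  refine Set.Subset.antisymm ?_ fun y hy => ?_
  · rintro _ ⟨m, rfl⟩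
    exact ⟨⟨m, hMle m.2⟩, rfl⟩
  rcases eq_or_ne ω α with rfl | hω
  · obtain ⟨m, rfl⟩ := hy
    exact ⟨1, (one_smul M ω).trans m.2.symm⟩
  obtain ⟨k, hk, hk1⟩ := (Subgroup.bot_or_exists_ne_one M).resolve_left hM
  have hmove : ∃ k ∈ M, ∃ x ∈ orbit (stabilizer G α) ω, k • x ≠ x := by
    by_contra hc
    push_neg at hc
    exact hk1 (eq_one_of_fixes_suborbit hH hep hω (hMle hk) (hc k hk))
  obtain ⟨k', hk', he⟩ := exists_smul_eq_of_normalized hep α ω M hMle hMn hmove (mem_orbit_self ω) hy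
  exact ⟨⟨k', hk'⟩, he⟩

end CfsgLib.Perm
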