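import Mathlib
import Cfsg.Agent.Perm.ExtremelyPrimitiveBasic

/-! Abelian subgroups normalized by a point stabilizer of an extremely primitive group. -/

set_option autoImplicit false

namespace CfsgLib.Perm

open MulAction

variable {G : Type*} [Group G] {Ω : Type*} [MulAction G Ω] [Finite G] [Finite Ω] [FaithfulSMul G Ω]
  [IsPreprimitive G Ω]

/-- An element of the stabilizer centralizing a non-trivial normalized subgroup and agreeing
with one of its elements on a point other than `α` lies in it. -/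
theorem eq_of_centralizes (hH : ∀ α : Ω, stabilizer G α ≠ ⊥) (hep : IsExtremelyPrimitive G Ω) {α : Ω}
    {M : Subgroup G} (hM : M ≠ ⊥) (hMle : M ≤ stabilizer G α)
    (hMn : stabilizer G α ≤ Subgroup.normalizer (M : Set G))
    {h : G} (hh : h ∈ stabilizer G α) (hc : ∀ m ∈ M, h * m = m * h)
    {k : G} (hk : k ∈ M) (hkc : ∀ m ∈ M, k * m = m * k) {ω : Ω} (hω : ω ≠ α) (he : h • ω = k • ω) : h = k := by
  have : k⁻¹ * h = 1 := by
    refine eq_one_of_fixes_suborbit hH hep hω (mul_mem (inv_mem (hMle hk)) hh) fun x hx => ?_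
    rw [← orbit_eq_of_normalized hH hep α M hM hMle hMn ω] at hx
    obtain ⟨⟨m, hm⟩, rfl⟩ := hx
    show (k⁻¹ * h) • m • ω = m • ω
    rw [smul_smul, mul_assoc, hc m hm, ← mul_assoc, show k⁻¹ * m = m * k⁻¹ by
      rw [inv_mul_eq_iff_eq_mul, ← mul_assoc, hkc m hm, mul_inv_cancel_right]]
    rw [mul_assoc, mul_smul, mul_smul, he, inv_smul_smul]
  exact (inv_mul_eq_one.mp this).symm

/-- An abelian non-trivial normalized subgroup of a stabilizer is self-centralizing there. -/
theorem mem_of_centralizes (hH : ∀ α : Ω, stabilizer G α ≠ ⊥) (hep : IsExtremelyPrimitive G Ω) {α : Ω}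
    {M : Subgroup G} (hM : M ≠ ⊥) (hMle : M ≤ stabilizer G α)
    (hMn : stabilizer G α ≤ Subgroup.normalizer (M : Set G)) (hMc : ∀ a ∈ M, ∀ b ∈ M, a * b = b * a)
    {h : G} (hh : h ∈ stabilizer G α) (hc : ∀ m ∈ M, h * m = m * h) : h ∈ M := by
  by_contra hne
  obtain ⟨m, hm, hm1⟩ := (Subgroup.bot_or_exists_ne_one M).resolve_left hM
  obtain ⟨ω, hω⟩ : ∃ ω : Ω, ω ≠ α := by
    by_contra hc'
    push_neg at hc'
    exact hm1 (eq_of_smul_eq_smul (α := Ω) fun z => by rw [hc' (m • z), hc' ((1 : G) • z)])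
  have : h • ω ∈ orbit M ω := by
    rw [orbit_eq_of_normalized hH hep α M hM hMle hMn ω]
    exact ⟨⟨h, hh⟩, rfl⟩
  obtain ⟨⟨k, hk⟩, hk'⟩ := this
  exact hne (eq_of_centralizes hH hep hM hMle hMn hh hc hk (hMc k hk) hω (Eq.symm hk') ▸ hk)

/-- An abelian normalized subgroup of a stabilizer acts semiregularly off `α`. -/
theorem eq_one_of_fixes_point (hH : ∀ α : Ω, stabilizer G α ≠ ⊥) (hep : IsExtremelyPrimitive G Ω) {α : Ω}
    {M : Subgroup G} (hMle : M ≤ stabilizer G α)
    (hMn : stabilizer G α ≤ Subgroup.normalizer (M : Set G)) (hMc : ∀ a ∈ M, ∀ b ∈ M, a * b = b * a)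
    {m : G} (hm : m ∈ M) {ω : Ω} (hω : ω ≠ α) (he : m • ω = ω) : m = 1 := by
  rcases eq_or_ne M ⊥ with hb | hb
  · rw [hb] at hm; exact Subgroup.mem_bot.mp hm
  exact eq_of_centralizes hH hep hb hMle hMn (hMle hm) (hMc m hm) (one_mem M) (by simp) hω (by simpa using he)

/-- A non-trivial normalized subgroup inside an abelian normalized subgroup is equal to it. -/
theorem eq_of_le_abelian (hH : ∀ α : Ω, stabilizer G α ≠ ⊥) (hep : IsExtremelyPrimitive G Ω) {α : Ω}
    {K M : Subgroup G} (hK : K ≠ ⊥) (hKM : K ≤ M) (hMle : M ≤ stabilizer G α)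
    (hKn : stabilizer G α ≤ Subgroup.normalizer (K : Set G)) (hMc : ∀ a ∈ M, ∀ b ∈ M, a * b = b * a) : K = M := by
  refine le_antisymm hKM fun m hm => ?_
  exact mem_of_centralizes hH hep hK (hKM.trans hMle) hKn (fun a ha b hb => hMc a (hKM ha) b (hKM hb))
    (hMle hm) (fun k hk => hMc m hm k (hKM hk))

/-- An abelian normalized subgroup of a stabilizer is elementary abelian. -/
theorem exists_prime_elementary (hH : ∀ α : Ω, stabilizer G α ≠ ⊥) (hep : IsExtremelyPrimitive G Ω) {α : Ω}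
    {M : Subgroup G} (hM : M ≠ ⊥) (hMle : M ≤ stabilizer G α)
    (hMn : stabilizer G α ≤ Subgroup.normalizer (M : Set G)) (hMc : ∀ a ∈ M, ∀ b ∈ M, a * b = b * a) :
    ∃ p e : ℕ, p.Prime ∧ Nat.card M = p ^ e ∧ ∀ m ∈ M, m ^ p = 1 := by
  obtain ⟨p, hp, hpM⟩ := Nat.exists_prime_and_dvd (n := Nat.card M) (fun h => hM (Subgroup.card_eq_one.mp h))
  haveI := Fact.mk hp
  obtain ⟨x, hx⟩ := exists_prime_orderOf_dvd_card' p hpM
  let K : Subgroup G :=
    { carrier := {m | m ∈ M ∧ m ^ p = 1}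
      one_mem' := ⟨one_mem M, one_pow p⟩
      mul_mem' := fun {a b} ha hb => ⟨mul_mem ha.1 hb.1, by
        rw [(show Commute a b from hMc a ha.1 b hb.1).mul_pow, ha.2, hb.2, one_mul]⟩
      inv_mem' := fun {a} ha => ⟨inv_mem ha.1, by rw [inv_pow, ha.2, inv_one]⟩ }
  have hKn : stabilizer G α ≤ Subgroup.normalizer (K : Set G) := by
    intro h hh
    rw [Subgroup.mem_normalizer_iff]
    intro m
    have := Subgroup.mem_normalizer_iff.mp (hMn hh) m
    show m ∈ M ∧ m ^ p = 1 ↔ h * m * h⁻¹ ∈ M ∧ (h * m * h⁻¹) ^ p = 1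
    rw [conj_pow, this, conj_eq_one_iff]
  have hK : K ≠ ⊥ := by
    intro hb
    have : (x : G) ∈ K := ⟨x.2, by rw [← SubmonoidClass.coe_pow, ← hx, pow_orderOf_eq_one]; rfl⟩
    rw [hb, Subgroup.mem_bot] at this
    have hx1 : x = 1 := Subtype.ext this
    rw [hx1, orderOf_one] at hx
    exact hp.ne_one hx.symm
  have hKM : K = M := eq_of_le_abelian hH hep hK (fun m hm => hm.1) hMle hKn hMc
  have hall : ∀ m ∈ M, m ^ p = 1 := fun m hm => by rw [← hKM] at hm; exact hm.2
  have hpg : IsPGroup p M := fun m => ⟨1, Subtype.ext (by simpa using hall m m.2)⟩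
  obtain ⟨e, he⟩ := IsPGroup.iff_card.mp hpg
  exact ⟨p, e, hp, he, hall⟩

/-- The number of points other than `α` is a multiple of the order of an abelian normalized subgroup. -/
theorem card_dvd_sub_one [Fintype Ω] (hH : ∀ α : Ω, stabilizer G α ≠ ⊥) (hep : IsExtremelyPrimitive G Ω) {α : Ω}
    {M : Subgroup G} (hMle : M ≤ stabilizer G α)
    (hMn : stabilizer G α ≤ Subgroup.normalizer (M : Set G)) (hMc : ∀ a ∈ M, ∀ b ∈ M, a * b = b * a) :
    Nat.card M ∣ Fintype.card Ω - 1 := by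
  classical
  let S : SubMulAction M Ω :=
    { carrier := {ω | ω ≠ α}
      smul_mem' := fun m {ω} hω he => hω (MulAction.injective (m : G)
        ((show (m : G) • ω = α from he).trans (show (m : G) • α = α from hMle m.2).symm)) }
  have hfree : ∀ b : S, stabilizer M b = ⊥ := fun b => by
    refine (Subgroup.eq_bot_iff_forall _).mpr fun m hm => Subtype.ext ?_
    exact eq_one_of_fixes_point hH hep hMle hMn hMc m.2 b.2 (congrArg Subtype.val hm)
  have h := Nat.card_congr (MulAction.selfEquivOrbitsQuotientProd hfree)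
  rw [Nat.card_prod] at h
  have hS : Nat.card S = Fintype.card Ω - 1 := by
    show Nat.card {ω : Ω // ω ≠ α} = _
    rw [Nat.card_eq_fintype_card, Fintype.card_subtype_compl, Fintype.card_subtype_eq]
  exact ⟨_, hS.symm.trans (h.trans (mul_comm _ _))⟩

end CfsgLib.Perm
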