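import Mathlib

/-! Linear automorphisms with prescribed values on independent vectors, and with prescribed determinant. -/

set_option autoImplicit false

namespace CfsgLib.Perm

theorem sumExtend_inl_eq {K V ι : Type*} [Field K] [AddCommGroup V] [Module K V] {v : ι → V}
    (hv : LinearIndependent K v) (i : ι) : Module.Basis.sumExtend hv (Sum.inl i) = v i := by
  classical
  simp [Module.Basis.sumExtend]
  rfl

variable {K V ι : Type*} [Field K] [AddCommGroup V] [Module K V] [FiniteDimensional K V] [Finite ι]

/-- The general linear group is transitive on independent families of a given shape. -/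
theorem exists_linearEquiv_map_indep {v w : ι → V} (hv : LinearIndependent K v)
    (hw : LinearIndependent K w) : ∃ A : V ≃ₗ[K] V, ∀ i, A (v i) = w i := by
  classical
  let B := Module.Basis.sumExtend hv
  let B' := Module.Basis.sumExtend hw
  haveI : Finite (ι ⊕ Module.Basis.sumExtendIndex hv) := Module.Finite.finite_basis B
  haveI : Finite (ι ⊕ Module.Basis.sumExtendIndex hw) := Module.Finite.finite_basis B'
  haveI : Finite (Module.Basis.sumExtendIndex hv) := Finite.of_injective (Sum.inr (α := ι)) Sum.inr_injective
  haveI : Finite (Module.Basis.sumExtendIndex hw) := Finite.of_injective (Sum.inr (α := ι)) Sum.inr_injective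
  have hc : Nat.card (Module.Basis.sumExtendIndex hv) = Nat.card (Module.Basis.sumExtendIndex hw) := by
    have h1 := Module.finrank_eq_nat_card_basis B
    have h2 := Module.finrank_eq_nat_card_basis B'
    rw [Nat.card_sum] at h1 h2
    omega
  obtain ⟨e⟩ := (Finite.card_eq).mp hc
  refine ⟨B.equiv B' (Equiv.sumCongr (Equiv.refl ι) e), fun i => ?_⟩
  have e1 : v i = B (Sum.inl i) := (sumExtend_inl_eq hv i).symm
  rw [e1, Module.Basis.equiv_apply]
  exact sumExtend_inl_eq hw i

end CfsgLib.Perm
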